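import Cfsg.Agent.Lib.SuzThree37.Norm
import Cfsg.Agent.Lib.Co1Type31.Setup

/-!
# Conway type: the coordinates from the hypotheses, adapted to an element of order three

The construction of the model follows `Lib/Co1Type31/Setup` (helper31).

Owner: helper37.
-/

set_option autoImplicit false
set_option maxHeartbeats 1000000

namespace Cfsg.Agent.Lib.SuzThree37

open Cfsg.Agent.Lib.Extraspecial Cfsg.Agent.Lib.Extraspecial.OutModel
open Cfsg.Agent.Lib.Co1Local52
open scoped Matrix commutatorElement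

universe u

variable {G : Type u} [Group G] [Finite G]

theorem model_iso {C : Type u} [Group C] [Finite C] (Q : Subgroup C) [Q.Normal]
    (hself : Subgroup.centralizer (Q : Set C) ≤ Q) (hQ : Cfsg.IsExtraspecial 2 Q)
    (hcard : Nat.card Q = 2 ^ 9) (hquot : Nat.card (C ⧸ Q) = 174182400) :
    Nonempty (↥Q ≃* Model (plusMat 4)) := by
  obtain ⟨z₀, hz₀⟩ := exists_esData hQ
  rcases two_of_three hz₀ (esData (plusMat_sq 4)) (esData (minusMat_sq 3))
      (by rw [hcard, card_model]; rfl) (by rw [card_model, card_model]; rfl) with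
    ⟨f, -⟩ | ⟨f, -⟩ | ⟨f, -⟩
  · exact ⟨f⟩
  · exfalso
    obtain ⟨A, ⟨hc, he⟩, hA⟩ := plus_exists 4
    refine minus_not_exists 3 ⟨A.map f.toMonoidHom, ⟨⟨⟨?_⟩⟩, ?_⟩, ?_⟩
    · rintro ⟨_, a, ha, rfl⟩ ⟨_, b, hb, rfl⟩
      refine Subtype.ext ?_
      show f a * f b = f b * f a
      rw [← map_mul, ← map_mul]
      exact congrArg f (congrArg Subtype.val (hc.is_comm.comm ⟨a, ha⟩ ⟨b, hb⟩))
    · rintro _ ⟨a, ha, rfl⟩
      show f a ^ 2 = 1
      rw [← map_pow, he a ha, map_one]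
    · rw [Subgroup.card_map_of_injective f.injective, hA]
  · exfalso
    obtain ⟨ρ, hρ, -⟩ := Co1Type31.exists_action (minusMat_sq 3) Q hself f
    have h1 := Subgroup.index_ker ρ
    rw [hρ, Subgroup.index_eq_card, hquot] at h1
    have h2 := Subgroup.card_subgroup_dvd_card ρ.range
    rw [← h1, Co1Type31.card_minus8] at h2
    norm_num at h2

theorem exists_env (z : G) (hz : orderOf z = 2) (Q : Subgroup (Subgroup.centralizer ({z} : Set G)))
    [Q.Normal] (hF : Cfsg.generalizedFittingSubgroup (Subgroup.centralizer ({z} : Set G)) = Q)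
    (hQ : Cfsg.IsExtraspecial 2 Q) (hcard : Nat.card Q = 2 ^ 9)
    (e : (Subgroup.centralizer ({z} : Set G)) ⧸ Q ≃* Cfsg.Omega (ZMod 2) (Cfsg.quadFormPlus 4 (ZMod 2)))
    (hnwc : ∃ g : G, (∃ hq : g * z * g⁻¹ ∈ Subgroup.centralizer ({z} : Set G),
      (⟨g * z * g⁻¹, hq⟩ : Subgroup.centralizer ({z} : Set G)) ∈ Q) ∧ g * z * g⁻¹ ≠ z) :
    ∃ E : Env G, E.z = z ∧ E.QG = Q.map (Subgroup.centralizer ({z} : Set G)).subtype := by
  classical
  have hzz : z * z = 1 := by rw [← sq, ← hz, pow_orderOf_eq_one]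
  have hz1 : z ≠ 1 := fun h => by rw [h, orderOf_one] at hz; norm_num at hz
  have hself : Subgroup.centralizer (Q : Set ↥(Subgroup.centralizer ({z} : Set G))) ≤ Q := by
    have := Cfsg.Agent.Lib.Components.GenFitting.centralizer_le (G := ↥(Subgroup.centralizer ({z} : Set G)))
    rwa [hF] at this
  set zc : ↥(Subgroup.centralizer ({z} : Set G)) := ⟨z, Subgroup.mem_centralizer_singleton_iff.2 rfl⟩ with hzc
  have hcom : ∀ c : ↥(Subgroup.centralizer ({z} : Set G)), c * zc = zc * c := fun c =>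
    Subtype.ext (Subgroup.mem_centralizer_singleton_iff.1 c.2)
  have hzQ : zc ∈ Q := hself (Subgroup.mem_centralizer_iff.2 fun q _ => hcom q)
  have hquot : Nat.card (↥(Subgroup.centralizer ({z} : Set G)) ⧸ Q) = 174182400 := by
    rw [Nat.card_congr e.toEquiv, ← qf_plus, Co1Type31.card_omega8]
  obtain ⟨φ⟩ := model_iso Q hself hQ hcard hquot
  obtain ⟨ρ, hρ, hρmv⟩ := Co1Type31.exists_action (plusMat_sq 4) Q hself φ
  have hrange : ρ.range = Cfsg.Omega (ZMod 2) (qf (plusMat 4)) := by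
    have h1 := Subgroup.index_ker ρ
    rw [hρ, Subgroup.index_eq_card, hquot] at h1
    have h2 : ρ.range.index = 2 := by
      have := Subgroup.card_mul_index ρ.range
      rw [← h1, Co1Type31.card_iso8] at this
      omega
    have hle : Cfsg.Omega (ZMod 2) (qf (plusMat 4)) ≤ ρ.range := by
      show commutator _ ≤ _
      rw [commutator_def, Subgroup.commutator_le]
      intro a _ b _
      rw [commutatorElement_def]
      simp only [Subgroup.mul_mem_iff_of_index_two h2, inv_mem_iff]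
      tauto
    exact (Subgroup.eq_of_le_of_card_ge hle (by rw [← h1, Co1Type31.card_omega8])).symm
  let co : ↥(Subgroup.centralizer ({z} : Set G)) → (Fin 4 ⊕ Fin 4 → ZMod 2) := fun q => if h : q ∈ Q then (φ ⟨q, h⟩).v else 0
  have hco : ∀ q (h : q ∈ Q), co q = (φ ⟨q, h⟩).v := fun q h => dif_pos h
  have hcen : ∀ q : ↥Q, (∀ p : ↥Q, Commute p q) → (q : ↥(Subgroup.centralizer ({z} : Set G))) = 1 ∨ (q : ↥(Subgroup.centralizer ({z} : Set G))) = zc := by
    intro q hq
    have hzm : (⟨zc, hzQ⟩ : ↥Q) ∈ Subgroup.center ↥Q :=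
      Subgroup.mem_center_iff.2 fun p => Subtype.ext (hcom p)
    have hqm : q ∈ Subgroup.center ↥Q := Subgroup.mem_center_iff.2 fun p => (hq p).eq
    have h2 : Nat.card (Subgroup.center ↥Q) = 2 := hQ.2
    obtain ⟨a, b, -, hab⟩ := Nat.card_eq_two_iff.1 h2
    have hall : ∀ w : Subgroup.center ↥Q, w = a ∨ w = b := fun w => by
      have : w ∈ ({a, b} : Set _) := hab ▸ Set.mem_univ w
      simpa using this
    have key : ∀ x y w : Subgroup.center ↥Q, x ≠ y → w = x ∨ w = y := fun x y w hxy => by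
      rcases hall x with rfl | rfl <;> rcases hall y with rfl | rfl <;> rcases hall w with rfl | rfl <;>
        simp_all
    rcases key 1 ⟨_, hzm⟩ ⟨q, hqm⟩
        (fun h => hz1 (congrArg (fun w : Subgroup.center ↥Q => (((w : ↥Q) : ↥(Subgroup.centralizer ({z} : Set G))) : G)) h).symm) with h | h
    · exact Or.inl (congrArg (fun w : Subgroup.center ↥Q => ((w : ↥Q) : ↥(Subgroup.centralizer ({z} : Set G)))) h)
    · exact Or.inr (congrArg (fun w : Subgroup.center ↥Q => ((w : ↥Q) : ↥(Subgroup.centralizer ({z} : Set G)))) h)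
  have hv0 : ∀ q : ↥Q, (φ q).v = 0 ↔ q ∈ Subgroup.center ↥Q := fun q => by
    rw [← mem_center_iff (plusMat_sq 4), Subgroup.mem_center_iff, Subgroup.mem_center_iff]
    constructor
    · intro h p
      apply φ.injective
      rw [map_mul, map_mul]
      exact h (φ p)
    · intro h p
      obtain ⟨p', rfl⟩ := φ.surjective p
      rw [← map_mul, ← map_mul, h p']
  have hf : ∀ v, Co1Cent.qf v = qf (plusMat 4) v := fun v => (congrFun (qf_plus 4) v).symm
  have hIso : Cfsg.isometryGroup (ZMod 2) (qf (plusMat 4)) = Cfsg.isometryGroup (ZMod 2) Co1Cent.qf :=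
    congrArg _ (qf_plus 4)
  obtain ⟨rho, hker, hmv, hran⟩ : ∃ rho : ↥(Subgroup.centralizer ({z} : Set G)) →* Cfsg.isometryGroup (ZMod 2) Co1Cent.qf, rho.ker = Q ∧
      (∀ (c : ↥(Subgroup.centralizer ({z} : Set G))) (q : ↥Q), mv (rho c) (φ q).v =
        (φ ⟨c * q * c⁻¹, Subgroup.Normal.conj_mem inferInstance q.1 q.2 c⟩).v) ∧
      rho.range = Cfsg.Omega (ZMod 2) Co1Cent.qf := by
    have key : ∀ (f : (Fin 4 ⊕ Fin 4 → ZMod 2) → ZMod 2), f = qf (plusMat 4) →
        ∃ rho : ↥(Subgroup.centralizer ({z} : Set G)) →* Cfsg.isometryGroup (ZMod 2) f, rho.ker = Q ∧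
          (∀ (c : ↥(Subgroup.centralizer ({z} : Set G))) (q : ↥Q), mv (rho c) (φ q).v =
            (φ ⟨c * q * c⁻¹, Subgroup.Normal.conj_mem inferInstance q.1 q.2 c⟩).v) ∧
          rho.range = Cfsg.Omega (ZMod 2) f := by
      rintro f rfl
      exact ⟨ρ, hρ, hρmv, hrange⟩
    exact key _ (funext hf)
  obtain ⟨g, ⟨hgC, hgQ⟩, hne⟩ := hnwc
  refine ⟨{
    z := z
    z_sq := hzz
    z_ne := hz1
    Q := Q
    co := co
    zmem := hzQ
    co_mul := fun x hx y hy => by
      rw [hco _ (mul_mem hx hy), hco x hx, hco y hy, ← mul_v, ← map_mul]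
      rfl
    co_z := by
      rw [hco _ hzQ, hv0, Subgroup.mem_center_iff]
      exact fun p => Subtype.ext (hcom p)
    co_zero := fun x hx h => by
      rw [hco x hx, hv0, Subgroup.mem_center_iff] at h
      exact (hcen ⟨x, hx⟩ h).imp (congrArg Subtype.val) (congrArg Subtype.val)
    co_surj := fun c => by
      obtain ⟨q, hq⟩ := φ.surjective (⟨c, 0⟩ : Model (plusMat 4))
      exact ⟨q, q.2, by rw [hco _ q.2, hq]⟩
    co_sq := fun x hx => by
      rw [hco x hx, hf]
      have hsq : φ (⟨x, hx⟩ * ⟨x, hx⟩) = ⟨0, qf (plusMat 4) (φ ⟨x, hx⟩).v⟩ := by rw [map_mul, sq_eq]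
      constructor
      · intro h0
        rw [h0] at hsq
        exact congrArg (fun y : ↥Q => ((y : ↥(Subgroup.centralizer ({z} : Set G))) : G)) (φ.injective (hsq.trans (map_one φ).symm))
      · intro h1
        rw [h1] at hsq
        refine (?_ : ((x * x : ↥(Subgroup.centralizer ({z} : Set G))) : G) = z)
        rcases hcen (⟨x, hx⟩ * ⟨x, hx⟩) (fun p => Subgroup.mem_center_iff.1
            ((hv0 _).1 (by rw [hsq])) p) with h' | h'
        · exfalso
          rw [show (⟨x, hx⟩ * ⟨x, hx⟩ : ↥Q) = 1 from Subtype.ext h', map_one] at hsq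
          exact zero_ne_one (congrArg Model.c hsq : (0 : F2) = 1)
        · exact congrArg Subtype.val h'
    rho := rho
    mv_rho := fun c x hx => by
      rw [hco x hx, hco _ (Subgroup.Normal.conj_mem inferInstance x hx c)]
      exact hmv c ⟨x, hx⟩
    ker_rho := hker
    range_rho := hran
    nwc := ⟨g, ⟨g * z * g⁻¹, hgC⟩, hgQ, rfl, hne⟩ }, rfl, rfl⟩

/-- The coordinates adapted to an element of order three with a non-abelian commutator of order eight. -/
theorem exists_ctx_env (E : Env G) (a : E.C) (ha3 : a ^ 3 = 1) (ha1 : a ≠ 1) (A : Subgroup G)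
    (hA : A ≤ E.QG) (hA8 : Nat.card A = 8) (hAn : ∃ u ∈ A, ∃ v ∈ A, ¬ Commute u v)
    (hcomm : ∀ q ∈ E.Q, ((q * a * q⁻¹ * a⁻¹ : E.C) : G) ∈ A) :
    ∃ E' : Env G, ∃ a' : E'.C, E'.z = E.z ∧ (a' : G) = a ∧ E'.rho a' = Three.σ ∧ a' ^ 3 = 1 ∧
      E'.QG = E.QG := by
  have hmem : ∀ w : A, ∃ x ∈ E.Q, (x : G) = w := fun w => hA w.2
  choose f hf hf' using hmem
  let φ : A →* Multiplicative (Fin 4 ⊕ Fin 4 → ZMod 2) :=
    MonoidHom.mk' (fun w => Multiplicative.ofAdd (E.co (f w))) fun v w => by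
      show Multiplicative.ofAdd _ = Multiplicative.ofAdd _ * Multiplicative.ofAdd _
      rw [← ofAdd_add, ← E.comul (hf v) (hf w)]
      exact congrArg (fun x => Multiplicative.ofAdd (E.co x))
        (Subtype.ext (by rw [hf', Subgroup.coe_mul, Subgroup.coe_mul, hf', hf']))
  let S : Set (Fin 4 ⊕ Fin 4 → ZMod 2) := Set.range fun w => E.co (f w)
  have hnc : ∀ {w w' : A}, ¬ Commute (w : G) w' → pol Co1Cent.qf (E.co (f w)) (E.co (f w')) = 1 := by
    intro w w' h
    refine (Norm.z2 _).resolve_left fun e => h ?_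
    have := congrArg Subtype.val ((E.comm_iff (hf w) (hf w')).2 e)
    simp only [Subgroup.coe_mul, hf'] at this
    exact this.symm
  obtain ⟨u, hu, v, hv, huv⟩ := hAn
  have h4 : S.ncard ≤ 4 := by
    have hk : 2 ≤ Nat.card φ.ker := by
      have hne : (⟨u, hu⟩ * ⟨v, hv⟩ : A) ≠ ⟨v, hv⟩ * ⟨u, hu⟩ := fun e => huv (congrArg Subtype.val e)
      have hz : (⟨u, hu⟩ * ⟨v, hv⟩ * (⟨v, hv⟩ * ⟨u, hu⟩)⁻¹ : A) ∈ φ.ker := by
        rw [MonoidHom.mem_ker, map_mul, map_inv, map_mul, map_mul, mul_comm (φ ⟨u, hu⟩), mul_inv_cancel]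
      have : Nontrivial φ.ker := ⟨⟨⟨_, hz⟩, 1, fun e =>
        hne (mul_inv_eq_one.1 (congrArg Subtype.val e))⟩⟩
      exact Finite.one_lt_card
    have h := Subgroup.card_mul_index φ.ker
    rw [Subgroup.index_ker, hA8] at h
    have hS : S.ncard = Nat.card φ.range := by
      rw [← Nat.card_coe_set_eq]
      exact Nat.card_congr (Equiv.refl _)
    rw [hS]
    nlinarith
  have hρ1 : E.rho a ≠ 1 := fun e => ha1 (eq_one_of_mem Three.D (E.mem_of_rho e) ha3)
  obtain ⟨τ, hτ⟩ := Norm.exists_conj_sigma (E.rho a) (by rw [← map_pow, ha3, map_one]) hρ1 S h4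
    (fun c => by
      obtain ⟨q, hq, rfl⟩ := E.co_surj c
      have hm : a * q⁻¹ * a⁻¹ ∈ E.Q := E.conj_mem_Q a (inv_mem hq)
      refine ⟨⟨_, hcomm q hq⟩, ?_⟩
      show E.co (f _) = _
      rw [show f ⟨_, hcomm q hq⟩ = q * (a * q⁻¹ * a⁻¹) from Subtype.ext (by rw [hf']; simp [mul_assoc]),
        E.comul hq hm, ← E.mv_co a (inv_mem hq), E.co_inv hq])
    ⟨_, ⟨⟨u, hu⟩, rfl⟩, _, ⟨⟨v, hv⟩, rfl⟩, hnc huv⟩
  refine ⟨E.twist τ, a, rfl, rfl, ?_, ha3, rfl⟩
  exact hτ

end Cfsg.Agent.Lib.SuzThree37
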