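import Cfsg.Agent.Lib.Co1Local52.Rho
import Cfsg.Agent.Lib.LargeExtra.TwoConjugate

/-!
# Conway type: coordinates on the extraspecial group and the action of the centraliser

An abstract version of `Lib/Co1Local52/Rho` (helper52).

Owner: helper37.
-/

set_option autoImplicit false

namespace Cfsg.Agent.Lib.SuzThree37

open Cfsg Cfsg.Agent.Lib.Co1Local52
open Cfsg.Agent.Lib.Co1Cent (V8 qf)
open scoped Pointwise

universe u

/-- Coordinates on the extraspecial group in the centraliser of an involution. -/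
structure Env (G : Type u) [Group G] where
  z : G
  z_sq : z * z = 1
  z_ne : z ≠ 1
  Q : Subgroup ↥(Subgroup.centralizer ({z} : Set G))
  co : ↥(Subgroup.centralizer ({z} : Set G)) → V8
  zmem : (⟨z, Subgroup.mem_centralizer_singleton_iff.2 rfl⟩ : ↥(Subgroup.centralizer ({z} : Set G))) ∈ Q
  co_mul : ∀ x ∈ Q, ∀ y ∈ Q, co (x * y) = co x + co y
  co_z : co ⟨z, Subgroup.mem_centralizer_singleton_iff.2 rfl⟩ = 0
  co_zero : ∀ x ∈ Q, co x = 0 → (x : G) = 1 ∨ (x : G) = z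
  co_surj : ∀ c, ∃ x ∈ Q, co x = c
  co_sq : ∀ x ∈ Q, (qf (co x) = 0 → (x : G) * x = 1) ∧ (qf (co x) = 1 → (x : G) * x = z)
  rho : ↥(Subgroup.centralizer ({z} : Set G)) →* Cfsg.isometryGroup (ZMod 2) qf
  mv_rho : ∀ c, ∀ x ∈ Q, mv (rho c) (co x) = co (c * x * c⁻¹)
  ker_rho : rho.ker = Q
  range_rho : rho.range = Cfsg.Omega (ZMod 2) qf
  nwc : ∃ g : G, ∃ x : ↥(Subgroup.centralizer ({z} : Set G)), x ∈ Q ∧ g * z * g⁻¹ = (x : G) ∧ (x : G) ≠ z

namespace Env

variable {G : Type u} [Group G] (E : Env G)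

/-- The centraliser. -/
abbrev C : Subgroup G := Subgroup.centralizer ({E.z} : Set G)

/-- The involution as an element of its centraliser. -/
def zq : E.C := ⟨E.z, Subgroup.mem_centralizer_singleton_iff.2 rfl⟩

theorem coe_zq : ((E.zq : E.C) : G) = E.z := rfl

theorem zq_mem : E.zq ∈ E.Q := E.zmem

theorem zq_comm (g : E.C) : g * E.zq = E.zq * g :=
  Subtype.ext (Subgroup.mem_centralizer_singleton_iff.1 g.2)

theorem zq_ne_one : E.zq ≠ 1 := fun h => E.z_ne (congrArg Subtype.val h)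

theorem zq_sq : E.zq * E.zq = 1 := Subtype.ext E.z_sq

theorem comul {x y : E.C} (hx : x ∈ E.Q) (hy : y ∈ E.Q) : E.co (x * y) = E.co x + E.co y :=
  E.co_mul x hx y hy

theorem mv_co (g : E.C) {x : E.C} (hx : x ∈ E.Q) : mv (E.rho g) (E.co x) = E.co (g * x * g⁻¹) :=
  E.mv_rho g x hx

theorem co_one : E.co 1 = 0 := by
  have h := E.co_mul 1 (one_mem _) 1 (one_mem _)
  rw [mul_one] at h
  exact left_eq_add.1 h

theorem co_zq : E.co E.zq = 0 := E.co_z

theorem co_inv {x : E.C} (hx : x ∈ E.Q) : E.co x⁻¹ = E.co x := by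
  have h := E.co_mul x hx x⁻¹ (inv_mem hx)
  rw [mul_inv_cancel, co_one] at h
  exact (eq_neg_of_add_eq_zero_right h.symm).trans (funext fun k => ZMod.neg_eq_self_mod_two _)

theorem co_eq_zero {x : E.C} (hx : x ∈ E.Q) (h : E.co x = 0) : x = 1 ∨ x = E.zq :=
  (E.co_zero x hx h).imp (fun e => Subtype.ext e) fun e => Subtype.ext e

theorem eq_or_of_co_eq {x y : E.C} (hx : x ∈ E.Q) (hy : y ∈ E.Q) (h : E.co x = E.co y) :
    y = x ∨ y = x * E.zq := by
  have h0 : E.co (x⁻¹ * y) = 0 := by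
    rw [E.co_mul _ (inv_mem hx) _ hy, E.co_inv hx, h, Co1Cent.two_vanish]
  rcases E.co_eq_zero (mul_mem (inv_mem hx) hy) h0 with e | e
  · exact Or.inl (inv_mul_eq_one.1 e).symm
  · exact Or.inr (inv_mul_eq_iff_eq_mul.1 e)

theorem sq_co {x : E.C} (hx : x ∈ E.Q) : x * x = if qf (E.co x) = 0 then 1 else E.zq := by
  split_ifs with h
  · exact Subtype.ext ((E.co_sq x hx).1 h)
  · exact Subtype.ext ((E.co_sq x hx).2 ((Co1Local52.zcases _).resolve_left h))

theorem sq_or {x : E.C} (hx : x ∈ E.Q) : x * x = 1 ∨ x * x = E.zq := by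
  rw [E.sq_co hx]; split_ifs <;> simp

theorem qf_eq_zero_iff {x : E.C} (hx : x ∈ E.Q) : qf (E.co x) = 0 ↔ x * x = 1 := by
  rw [E.sq_co hx]
  constructor
  · intro h; rw [if_pos h]
  · intro h
    by_contra hc
    rw [if_neg hc] at h
    exact E.zq_ne_one h

theorem comm_or {x y : E.C} (hx : x ∈ E.Q) (hy : y ∈ E.Q) :
    y * x = x * y ∨ y * x = E.zq * (x * y) := by
  have h : E.co (x * y) = E.co (y * x) := by
    rw [E.co_mul x hx y hy, E.co_mul y hy x hx, add_comm]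
  rcases E.eq_or_of_co_eq (mul_mem hx hy) (mul_mem hy hx) h with e | e
  · exact Or.inl e
  · exact Or.inr (e.trans (E.zq_comm _))

theorem comm_iff {x y : E.C} (hx : x ∈ E.Q) (hy : y ∈ E.Q) :
    y * x = x * y ↔ pol qf (E.co x) (E.co y) = 0 := by
  have key : ∀ w : E.C, y * x = w * (x * y) → (∀ g : E.C, g * w = w * g) →
      (x * y) * (x * y) = w * ((x * x) * (y * y)) := fun w h hw => by
    calc (x * y) * (x * y) = x * (y * x) * y := by simp only [mul_assoc]
      _ = x * (w * (x * y)) * y := by rw [h]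
      _ = (x * w) * (x * (y * y)) := by simp only [mul_assoc]
      _ = w * ((x * x) * (y * y)) := by rw [hw x]; simp only [mul_assoc]
  have hm := E.sq_co (mul_mem hx hy)
  rw [E.co_mul _ hx _ hy] at hm
  have hx2 := E.sq_co hx
  have hy2 := E.sq_co hy
  rw [pol]
  constructor
  · intro h
    rw [key 1 (by rw [one_mul, h]) (fun g => by rw [one_mul, mul_one]), one_mul, hx2, hy2] at hm
    revert hm
    generalize qf (E.co x + E.co y) = a
    generalize qf (E.co x) = b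
    generalize qf (E.co y) = c
    rcases Co1Local52.zcases a with rfl | rfl <;> rcases Co1Local52.zcases b with rfl | rfl <;>
      rcases Co1Local52.zcases c with rfl | rfl <;>
      simp [E.zq_sq, E.zq_ne_one, Ne.symm E.zq_ne_one, CharTwo.add_self_eq_zero]
  · intro h
    rcases E.comm_or hx hy with e | e
    · exact e
    rw [key E.zq e E.zq_comm, hx2, hy2] at hm
    revert hm h
    generalize qf (E.co x + E.co y) = a
    generalize qf (E.co x) = b
    generalize qf (E.co y) = c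
    rcases Co1Local52.zcases a with rfl | rfl <;> rcases Co1Local52.zcases b with rfl | rfl <;>
      rcases Co1Local52.zcases c with rfl | rfl <;>
      simp [E.zq_sq, E.zq_ne_one, Ne.symm E.zq_ne_one, CharTwo.add_self_eq_zero]

theorem exists_noncomm {x : E.C} (hx : x ∈ E.Q) (h : E.co x ≠ 0) :
    ∃ y ∈ E.Q, y * x * y⁻¹ = x * E.zq := by
  obtain ⟨d, hd⟩ := exists_pol_one _ h
  obtain ⟨y, hy, rfl⟩ := E.co_surj d
  refine ⟨y, hy, ?_⟩
  rcases E.comm_or hx hy with e | e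
  · rw [E.comm_iff hx hy, hd] at e
    exact absurd e (by decide)
  · rw [e, ← mul_assoc, mul_inv_cancel_right]
    exact (E.zq_comm x).symm

theorem conj_mem_Q (g : E.C) {x : E.C} (hx : x ∈ E.Q) : g * x * g⁻¹ ∈ E.Q := by
  have h : x ∈ E.rho.ker := by rw [E.ker_rho]; exact hx
  rw [← E.ker_rho]
  exact (MonoidHom.normal_ker _).conj_mem x h g

theorem rho_of_mem {x : E.C} (hx : x ∈ E.Q) : E.rho x = 1 :=
  MonoidHom.mem_ker.1 (by rw [E.ker_rho]; exact hx)

theorem mem_of_rho {x : E.C} (hx : E.rho x = 1) : x ∈ E.Q := by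
  rw [← E.ker_rho]
  exact hx

theorem exists_lift {g : Cfsg.isometryGroup (ZMod 2) qf} (hg : g ∈ Cfsg.Omega (ZMod 2) qf) :
    ∃ x : E.C, E.rho x = g := by
  rw [← E.range_rho] at hg
  exact hg

/-- The non-central involutions of the extraspecial subgroup are conjugate. -/
theorem exists_conj_of_singular {x y : E.C} (hx : x ∈ E.Q) (hy : y ∈ E.Q) (hx0 : E.co x ≠ 0)
    (hxq : qf (E.co x) = 0) (hy0 : E.co y ≠ 0) (hyq : qf (E.co y) = 0) :
    ∃ g : E.C, g * x * g⁻¹ = y := by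
  obtain ⟨r, hr, hrxy⟩ := omega_transitive hx0 hxq hy0 hyq
  obtain ⟨g, rfl⟩ := E.exists_lift hr
  rw [E.mv_rho g x hx] at hrxy
  rcases E.eq_or_of_co_eq (E.conj_mem_Q g hx) hy hrxy with e | e
  · exact ⟨g, e.symm⟩
  · obtain ⟨q, hq, hq'⟩ := E.exists_noncomm (E.conj_mem_Q g hx) (hrxy ▸ hy0)
    refine ⟨q * g, ?_⟩
    rw [e, ← hq']
    simp only [mul_assoc, mul_inv_rev]

/-- The extraspecial subgroup of the whole group. -/
def QG : Subgroup G := E.Q.map E.C.subtype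

open Cfsg.Agent.Lib.LargeExtraspecial.Basic in
theorem es : ES E.QG E.z where
  mem := ⟨E.zq, E.zq_mem, rfl⟩
  ne := E.z_ne
  sq := E.z_sq
  comm := by
    rintro _ ⟨x, -, rfl⟩
    exact Subgroup.mem_centralizer_singleton_iff.1 x.2
  center := by
    rintro _ ⟨x, hx, rfl⟩ hc
    by_cases h : E.co x = 0
    · exact (E.co_zero x hx h)
    · exfalso
      obtain ⟨y, hy, e⟩ := E.exists_noncomm hx h
      rw [show y * x * y⁻¹ = x from mul_inv_eq_iff_eq_mul.2 (Subtype.ext (hc _ ⟨y, hy, rfl⟩).eq)] at e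
      exact E.zq_ne_one (left_eq_mul.1 e)
  conj := by
    rintro _ ⟨q, hq, rfl⟩ _ ⟨v, hv, rfl⟩
    rcases E.comm_or hv hq with e | e
    · exact Or.inl (mul_inv_eq_iff_eq_mul.2 (congrArg Subtype.val e))
    · refine Or.inr (congrArg Subtype.val (?_ : q * v * q⁻¹ = v * E.zq))
      rw [e, ← mul_assoc, mul_inv_cancel_right, E.zq_comm]

theorem setting [Finite G] {g : G} {x : E.C} (hx : x ∈ E.Q) (hg : g * E.z * g⁻¹ = (x : G))
    (hne : (x : G) ≠ E.z) : LargeExtra.TwoConjugate.Setting E.QG E.z g := by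
  refine ⟨E.es, fun c hc => ?_, ?_, ⟨x, hx, hg.symm⟩, hg ▸ hne, ?_⟩
  · have hcC : c ∈ E.C := Subgroup.mem_centralizer_singleton_iff.2 (hc _ ⟨E.zq, E.zq_mem, rfl⟩).eq
    have hr : E.rho ⟨c, hcC⟩ = 1 := by
      refine iso_ext fun v => ?_
      obtain ⟨q, hq, rfl⟩ := E.co_surj v
      rw [mv_one, E.mv_rho _ q hq, show (⟨c, hcC⟩ : E.C) * q * (⟨c, hcC⟩ : E.C)⁻¹ = q from
        mul_inv_eq_iff_eq_mul.2 (Subtype.ext (hc _ ⟨q, hq, rfl⟩).eq)]
    exact E.es.center c ⟨⟨c, hcC⟩, E.mem_of_rho hr, rfl⟩ fun p hp => (hc p hp).symm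
  · rintro c hc _ ⟨q, hq, rfl⟩
    exact ⟨_, E.conj_mem_Q ⟨c, Subgroup.mem_centralizer_singleton_iff.2 hc.eq⟩ hq, rfl⟩
  · have h : Nat.card V8 ≤ Nat.card E.QG := by
      choose f hf hf' using E.co_surj
      refine Nat.card_le_card_of_injective (fun v => (⟨(f v : G), f v, hf v, rfl⟩ : E.QG))
        fun a b e => ?_
      rw [← hf' a, ← hf' b, show f a = f b from Subtype.ext (congrArg (fun q : E.QG => (q : G)) e)]
    have h' : Nat.card V8 = 256 := by simp [Nat.card_eq_fintype_card]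
    omega

/-- Two conjugate involutions can be interchanged. -/
theorem exists_swap [Finite G] {x : E.C} (hx : x ∈ E.Q) (hx0 : E.co x ≠ 0)
    (hxq : qf (E.co x) = 0) :
    ∃ t : G, t * E.z * t⁻¹ = (x : G) ∧ t * (x : G) * t⁻¹ = E.z := by
  obtain ⟨g, y, hy, hgy, hyz⟩ := E.nwc
  obtain ⟨n, h1, h2⟩ := LargeExtra.TwoConjugate.exists_swap (E.setting hy hgy hyz)
  rw [hgy] at h1 h2
  have hy2 : (y : G) * y = 1 := by rw [← hgy, conj_mul, E.z_sq, mul_one, mul_inv_cancel]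
  have hy1 : (y : G) ≠ 1 := fun e => E.z_ne (conj_eq_one_iff.1 (hgy.trans e))
  obtain ⟨c, hc⟩ := E.exists_conj_of_singular hy hx
    (fun e => (E.co_zero y hy e).elim hy1 hyz)
    ((E.qf_eq_zero_iff hy).2 (Subtype.ext hy2)) hx0 hxq
  have hcz : (c : G) * E.z * (c : G)⁻¹ = E.z :=
    mul_inv_eq_iff_eq_mul.2 (Subgroup.mem_centralizer_singleton_iff.1 c.2)
  have hcy : (c : G) * y * (c : G)⁻¹ = (x : G) := congrArg Subtype.val hc
  refine ⟨(c : G) * n * (c : G)⁻¹, ?_, ?_⟩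
  · calc (c : G) * n * (c : G)⁻¹ * E.z * ((c : G) * n * (c : G)⁻¹)⁻¹
        = (c : G) * n * (c : G)⁻¹ * ((c : G) * E.z * (c : G)⁻¹) * ((c : G) * n * (c : G)⁻¹)⁻¹ := by
          rw [hcz]
      _ = (c : G) * (n * E.z * n⁻¹) * (c : G)⁻¹ := by group
      _ = x := by rw [h1, hcy]
  · rw [← hcy]
    calc (c : G) * n * (c : G)⁻¹ * ((c : G) * y * (c : G)⁻¹) * ((c : G) * n * (c : G)⁻¹)⁻¹
        = (c : G) * (n * (y : G) * n⁻¹) * (c : G)⁻¹ := by group
      _ = E.z := by rw [h2, hcz]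

/-- The coordinates moved by an isometry. -/
def twist (τ : Cfsg.isometryGroup (ZMod 2) qf) : Env G where
  z := E.z
  z_sq := E.z_sq
  z_ne := E.z_ne
  Q := E.Q
  co x := mv τ (E.co x)
  zmem := E.zmem
  co_mul x hx y hy := by rw [E.co_mul x hx y hy, mv_add]
  co_z := by rw [E.co_z, mv_zero]
  co_zero x hx h := E.co_zero x hx (mv_injective τ (h.trans (mv_zero τ).symm))
  co_surj c := by
    obtain ⟨x, hx, h⟩ := E.co_surj (mv τ⁻¹ c)
    exact ⟨x, hx, by rw [h, mv_inv']⟩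
  co_sq x hx := by
    rw [mv_form (f := qf)]
    exact E.co_sq x hx
  rho := (MulAut.conj τ).toMonoidHom.comp E.rho
  mv_rho c x hx := by
    show mv (τ * E.rho c * τ⁻¹) (mv τ (E.co x)) = _
    rw [mv_mul, mv_mul, mv_inv, E.mv_rho c x hx]
  ker_rho := by
    rw [← E.ker_rho]
    ext c
    simp [MonoidHom.mem_ker]
  range_rho := by
    rw [MonoidHom.range_eq_map, ← Subgroup.map_map, ← MonoidHom.range_eq_map, E.range_rho]
    have : (Cfsg.Omega (ZMod 2) (Co1Cent.qf)).Normal := by unfold Cfsg.Omega; infer_instance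
    exact Subgroup.Normal.conj_smul_eq_self τ (Cfsg.Omega (ZMod 2) qf)
  nwc := E.nwc

end Env

end Cfsg.Agent.Lib.SuzThree37
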