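import Cfsg.Agent.Lib.SuzThree37.Struct
import Cfsg.Agent.Lib.Co1Local52.Fusion

/-!
# Conway type: the Suzuki type hypothesis for the quotient

An abstract version of `Lib/Co1Local52` (helper52).

Owner: helper37.
-/

set_option autoImplicit false
set_option maxHeartbeats 1000000

namespace Cfsg.Agent.Lib.SuzThree37

open Cfsg Cfsg.Agent.Lib.Co1Local52
open Cfsg.Agent.Lib.Co1Cent (V8 qf)
open scoped Matrix commutatorElement

universe u

variable {G : Type u} [Group G] [Finite G] {E : Env G}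

attribute [local irreducible] wc

namespace Ctx

variable {p m : ℕ} (X : Ctx E p m)

theorem z_sq' : E.z * E.z = 1 := congrArg Subtype.val E.zq_sq

theorem x_mem_HH : X.W.x ∈ HH X.a := by
  obtain ⟨w, hw⟩ := X.hw
  exact mem_HH_of X.D X.ha X.hap X.W.mem (X.W.coord_eq.trans hw.symm)

theorem x_ne : X.W.x ≠ 1 ∧ X.W.x ≠ E.zq := by
  constructor <;> intro e <;> refine w0_good.1 ?_ <;> rw [← X.W.coord_eq, e]
  · exact E.co_one
  · exact E.co_zq

theorem ta_mem : X.W.t * (X.a : G) * X.W.t⁻¹ ∈ E.C := by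
  refine Subgroup.mem_centralizer_singleton_iff.2 ?_
  have h : (X.a : G) * (X.W.x : G) = (X.W.x : G) * X.a :=
    (congrArg Subtype.val (Subgroup.mem_centralizer_singleton_iff.1 X.x_mem_HH)).symm
  rw [← X.W.snd, conj_mul, conj_mul, h]

/-- The conjugate of the element. -/
noncomputable def a2 : E.C := ⟨X.W.t * (X.a : G) * X.W.t⁻¹, X.ta_mem⟩

theorem coe_a2 : ((X.a2 : E.C) : G) = X.W.t * (X.a : G) * X.W.t⁻¹ := rfl

theorem a2_pow : X.a2 ^ p = 1 := by
  refine Subtype.ext ?_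
  rw [SubgroupClass.coe_pow, coe_a2, conj_pow, ← SubgroupClass.coe_pow, X.hap, OneMemClass.coe_one,
    mul_one, mul_inv_cancel]

theorem a2_fix : X.a2 * X.W.x * X.a2⁻¹ = X.W.x := by
  refine mul_inv_eq_iff_eq_mul.2 (Subtype.ext ?_)
  show (X.a2 : G) * (X.W.x : G) = (X.W.x : G) * (X.a2 : G)
  rw [coe_a2, ← X.W.fst, conj_mul, conj_mul, Subgroup.mem_centralizer_singleton_iff.1 X.a.2]

theorem rho2_a2_ne : E.rho X.a2 ≠ 1 := fun h => by
  have h1 : (X.a2 : G) = 1 :=
    congrArg Subtype.val (eq_one_of_mem X.D (E.mem_of_rho h) X.a2_pow)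
  rw [coe_a2, conj_eq_one_iff] at h1
  exact X.D.ne_one (by rw [← X.ha, show X.a = 1 from Subtype.ext h1, map_one])

/-- The elements of the preimage commuting with the second involution. -/
noncomputable def PP : Subgroup (HH X.a) :=
  E.Q.subgroupOf (HH X.a) ⊓ Subgroup.centralizer {⟨X.W.x, X.x_mem_HH⟩}

theorem t_conj_mem (q : X.PP) :
    X.W.t * (((q : HH X.a) : E.C) : G) * X.W.t⁻¹ ∈ E.C := by
  refine Subgroup.mem_centralizer_singleton_iff.2 ?_
  have h : (((q : HH X.a) : E.C) : G) * (X.W.x : G) =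
      (X.W.x : G) * ((q : HH X.a) : E.C) :=
    congrArg (fun y : HH X.a => ((y : E.C) : G))
      (Subgroup.mem_centralizer_singleton_iff.1 q.2.2)
  rw [← X.W.snd, conj_mul, conj_mul, h]

/-- Conjugation into the centraliser of the involution. -/
noncomputable def tconj : X.PP →* E.C :=
  ((MulAut.conj X.W.t).toMonoidHom.comp
    (E.C.subtype.comp ((HH X.a).subtype.comp X.PP.subtype))).codRestrict _ fun q => X.t_conj_mem q

theorem coe_tconj (q : X.PP) : ((X.tconj q : E.C) : G) =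
    X.W.t * (((q : HH X.a) : E.C) : G) * X.W.t⁻¹ := rfl

theorem card_PP : 2 ^ (2 * m + 2) ≤ Nat.card X.PP := by
  have : Finite E.C := inferInstance
  obtain ⟨r, hr, e⟩ := X.exists_noncomm_QS (q := ⟨X.W.x, X.x_mem_HH⟩) X.W.mem X.x_ne.1 X.x_ne.2
  have hcover : ((E.Q.subgroupOf (HH X.a) : Subgroup (HH X.a)) : Set (HH X.a)) ⊆
      (X.PP : Set (HH X.a)) ∪ (r * ·) '' (X.PP : Set (HH X.a)) := by
    intro q hq
    have hq' : (q : E.C) ∈ E.Q := hq
    rcases X.cases_QS ⟨X.W.x, X.x_mem_HH⟩ q X.W.mem hq' with e' | e'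
    · exact Or.inl ⟨hq, Subgroup.mem_centralizer_singleton_iff.2 (mul_inv_eq_iff_eq_mul.1 e')⟩
    · refine Or.inr ⟨r⁻¹ * q, ⟨(E.Q.subgroupOf (HH X.a)).mul_mem ((E.Q.subgroupOf (HH X.a)).inv_mem hr) hq, ?_⟩, mul_inv_cancel_left r q⟩
      refine Subgroup.mem_centralizer_singleton_iff.2 ?_
      calc r⁻¹ * q * (⟨X.W.x, X.x_mem_HH⟩ : HH X.a)
          = r⁻¹ * (q * ⟨X.W.x, X.x_mem_HH⟩ * q⁻¹) * q := by group
        _ = r⁻¹ * (r * ⟨X.W.x, X.x_mem_HH⟩ * r⁻¹) * q := by rw [e', e]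
        _ = ⟨X.W.x, X.x_mem_HH⟩ * (r⁻¹ * q) := by group
  have h := (Set.ncard_le_ncard hcover).trans (Set.ncard_union_le _ _)
  have h2 := Set.ncard_image_le (f := fun a : HH X.a => r * a) (s := (X.PP : Set (HH X.a)))
  rw [← Nat.card_coe_set_eq] at h
  have hc : Nat.card ((E.Q.subgroupOf (HH X.a) : Subgroup (HH X.a)) : Set (HH X.a)) =
      2 ^ (2 * m + 3) := X.card_CQ
  have hp : (X.PP : Set (HH X.a)).ncard = Nat.card X.PP := by rw [← Nat.card_coe_set_eq]; rfl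
  rw [hc, pow_succ] at h
  omega

theorem radPart : RadPart m (E.rho X.a2) := by
  have : Finite E.C := inferInstance
  let φ : X.PP →* Cfsg.isometryGroup (ZMod 2) qf := E.rho.comp X.tconj
  refine ⟨φ.range, ?_, ?_⟩
  · have hk : Nat.card φ.ker ≤ 4 := by
      have hmaps : ∀ q : φ.ker, X.tconj q ∈ ({1, E.zq, X.W.x, X.W.x * E.zq} : Set E.C) := by
        rintro ⟨q, hq⟩
        have hQ : X.tconj q ∈ E.Q := E.mem_of_rho hq
        have hb : X.W.Both (X.tconj q) := ⟨hQ, _, q.2.1, X.coe_tconj q⟩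
        simp only [Set.mem_insert_iff, Set.mem_singleton_iff]
        rcases X.W.both_coord hb with h | h
        · rcases E.co_eq_zero hQ h with e | e <;> simp [e]
        · rcases E.eq_or_of_co_eq X.W.mem hQ (X.W.coord_eq.trans h.symm) with e | e <;> simp [e]
      have hinj : Function.Injective (fun q : φ.ker => X.tconj q) := fun u v e => by
        have e' := congrArg Subtype.val e
        simp only [coe_tconj, mul_left_inj, mul_right_inj] at e'
        exact Subtype.ext (Subtype.ext (Subtype.ext (Subtype.ext e')))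
      have h := Set.ncard_le_ncard (s := Set.range (fun q : φ.ker => X.tconj q))
        (t := {1, E.zq, X.W.x, X.W.x * E.zq}) (by rintro _ ⟨q, rfl⟩; exact hmaps q)
      rw [← Nat.card_coe_set_eq, Nat.card_range_of_injective hinj] at h
      refine h.trans ((Set.ncard_insert_le _ _).trans ?_)
      refine Nat.add_le_add_right ((Set.ncard_insert_le _ _).trans ?_) 1
      refine Nat.add_le_add_right ((Set.ncard_insert_le _ _).trans ?_) 1
      rw [Set.ncard_singleton]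
    have h := Subgroup.card_mul_index φ.ker
    rw [Subgroup.index_ker] at h
    have hP := X.card_PP
    rw [← h, pow_add] at hP
    have := Nat.mul_le_mul_right (Nat.card φ.range) hk
    omega
  · rintro _ ⟨q, rfl⟩
    have hq : ((q : HH X.a) : E.C) ∈ E.Q := q.2.1
    obtain ⟨h1, h2⟩ := X.W.unipotent hq (X.tconj q) (X.coe_tconj q)
    refine ⟨?_, h1, h2⟩
    refine (show Commute (X.tconj q) X.a2 from Subtype.ext ?_).map E.rho
    show (X.tconj q : G) * (X.a2 : G) = (X.a2 : G) * (X.tconj q : G)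
    rw [coe_tconj, coe_a2, conj_mul, conj_mul]
    exact congrArg (fun y : G => X.W.t * y * X.W.t⁻¹)
      (congrArg Subtype.val (commute_HH (q : HH X.a)).eq)

/-- A conjugating element. -/
theorem exists_k : ∃ k : G, k * (X.a : G) * k⁻¹ = X.a ∧
    (∃ y : E.C, y ∈ E.Q ∧ y ∈ HH X.a ∧ y ≠ E.zq ∧ k * E.z * k⁻¹ = (y : G)) ∧
    k⁻¹ * E.z * k = (X.W.x : G) := by
  have hfin : Finite E.C := inferInstance
  have hO : E.rho X.a2 ∈ Cfsg.Omega (ZMod 2) qf := by rw [← E.range_rho]; exact ⟨_, rfl⟩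
  obtain ⟨τ, hτ⟩ := X.fusion _ hO (by rw [← map_pow, X.a2_pow, map_one]) X.rho2_a2_ne
    (by rw [← X.W.coord_eq, E.mv_co _ X.W.mem, X.a2_fix]) X.radPart
  obtain ⟨τ', hτ', hτ''⟩ := X.D.conj_omega hτ
  obtain ⟨g, rfl⟩ := E.exists_lift hτ'
  have hρ : E.rho (g * X.a2 * g⁻¹) = E.rho X.a := by rw [map_mul, map_mul, map_inv, hτ'', X.ha]
  obtain ⟨q, -, hq⟩ := exists_conj_ker X.D.prime E.rho (not_dvd E X.D)
    (show (g * X.a2 * g⁻¹) ^ p = 1 by rw [conj_pow, X.a2_pow, mul_one, mul_inv_cancel]) X.hap hρ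
    (by rw [hρ, X.ha]; exact X.D.ne_one)
  have hqg : (q * g) * X.a2 * (q * g)⁻¹ = X.a := by rw [← hq]; group
  refine ⟨((q * g : E.C) : G) * X.W.t, ?_,
    ⟨(q * g) * X.W.x * (q * g)⁻¹, E.conj_mem_Q _ X.W.mem, ?_, ?_, ?_⟩, ?_⟩
  · have e := congrArg Subtype.val hqg
    simp only [Subgroup.coe_mul, InvMemClass.coe_inv, coe_a2] at e
    rw [Subgroup.coe_mul]
    refine Eq.trans ?_ e
    group
  · refine Subgroup.mem_centralizer_singleton_iff.2 ?_
    have h : X.W.x * X.a2 = X.a2 * X.W.x := (mul_inv_eq_iff_eq_mul.1 X.a2_fix).symm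
    rw [← hqg, conj_mul, conj_mul, h]
  · intro e
    refine X.x_ne.2 ?_
    rw [mul_inv_eq_iff_eq_mul, ← E.zq_comm] at e
    exact mul_left_cancel e
  · show ((q * g : E.C) : G) * X.W.t * E.z * (((q * g : E.C) : G) * X.W.t)⁻¹ =
      ((q * g : E.C) : G) * (X.W.x : G) * ((q * g : E.C) : G)⁻¹
    rw [← X.W.fst]; group
  · have hc : ((q * g : E.C) : G)⁻¹ * E.z * ((q * g : E.C) : G) = E.z := by
      rw [mul_assoc, ← Subgroup.mem_centralizer_singleton_iff.1 (q * g).2, inv_mul_cancel_left]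
    calc (((q * g : E.C) : G) * X.W.t)⁻¹ * E.z * (((q * g : E.C) : G) * X.W.t)
        = X.W.t⁻¹ * (((q * g : E.C) : G)⁻¹ * E.z * ((q * g : E.C) : G)) * X.W.t := by group
      _ = X.W.t⁻¹ * (X.W.t * (X.W.x : G) * X.W.t⁻¹) * X.W.t := by rw [hc, X.W.snd]
      _ = (X.W.x : G) := by group

theorem exists_g : ∃ g : X.SS, g * X.zS * g⁻¹ ∈ X.QS ∧ g⁻¹ * X.zS * g ∈ X.QS ∧
    g * X.zS * g⁻¹ ≠ X.zS := by
  obtain ⟨k, hka, ⟨y, hy, hya, hyz, hky⟩, hkx⟩ := X.exists_k
  let k' : X.AA := ⟨k, Subgroup.mem_centralizer_singleton_iff.2 (mul_inv_eq_iff_eq_mul.1 hka)⟩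
  have f1 : k' * X.toA X.zh * k'⁻¹ = X.toA ⟨y, hya⟩ := Subtype.ext (by
    show k * ((E.zq : E.C) : G) * k⁻¹ = (y : G)
    rw [E.coe_zq, hky])
  have f2 : k'⁻¹ * X.toA X.zh * k' = X.toA ⟨X.W.x, X.x_mem_HH⟩ := Subtype.ext (by
    show k⁻¹ * ((E.zq : E.C) : G) * k = (X.W.x : G)
    rw [E.coe_zq, hkx])
  have e1 : (QuotientGroup.mk k' : X.SS) * X.zS * (QuotientGroup.mk k')⁻¹ = X.pS ⟨y, hya⟩ := by
    rw [zS, pS, MonoidHom.comp_apply, MonoidHom.comp_apply, ← f1]
    rfl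
  have e2 : (QuotientGroup.mk k' : X.SS)⁻¹ * X.zS * QuotientGroup.mk k' =
      X.pS ⟨X.W.x, X.x_mem_HH⟩ := by
    rw [zS, pS, MonoidHom.comp_apply, MonoidHom.comp_apply, ← f2]
    rfl
  refine ⟨QuotientGroup.mk k', ?_, ?_, ?_⟩
  · rw [e1]; exact X.mem_QS.2 ⟨⟨y, hya⟩, hy, rfl⟩
  · rw [e2]; exact X.mem_QS.2 ⟨⟨X.W.x, X.x_mem_HH⟩, X.W.mem, rfl⟩
  · rw [e1]
    intro e
    have h := X.pS_inj (q := ⟨y, hya⟩) (r := X.zh) hy E.zq_mem e
    exact hyz (congrArg Subtype.val h)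

theorem finite_SS : Finite X.SS := by
  have := finite_co1
  infer_instance

theorem isSimple_SS : IsSimpleGroup X.SS := by
  have := X.finite_SS
  obtain ⟨g, h1, h2, h3⟩ := X.exists_g
  exact X.bigTwo.isSimple h1 h2 h3

theorem not_comm_SS : ¬ IsMulCommutative X.SS := by
  intro h
  obtain ⟨r, hr, e⟩ := X.exists_noncomm_QS (q := ⟨X.W.x, X.x_mem_HH⟩) X.W.mem X.x_ne.1 X.x_ne.2
  have e' := congrArg X.pS e
  rw [map_mul, map_mul, map_inv, map_mul,
    IsMulCommutative.is_comm.comm (X.pS r) (X.pS ⟨X.W.x, X.x_mem_HH⟩), mul_inv_cancel_right] at e'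
  exact X.zS_ne_one (left_eq_mul.1 e')

/-- The centraliser of the involution of the quotient. -/
noncomputable abbrev CS : Subgroup X.SS := Subgroup.centralizer {X.zS}

theorem QS_le : X.QS ≤ X.CS := fun q hq =>
  Subgroup.mem_centralizer_singleton_iff.2 (X.bigTwo.comm q hq).eq

/-- The extraspecial subgroup in the centraliser. -/
noncomputable def QC : Subgroup X.CS := X.QS.subgroupOf X.CS

instance QC_normal : X.QC.Normal :=
  ⟨fun n hn g => X.bigTwo.norm _ (Subgroup.mem_centralizer_singleton_iff.1 g.2) _ hn⟩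

/-- The map onto the centraliser. -/
noncomputable def pC : HH X.a →* X.CS :=
  X.pS.codRestrict _ fun h => Subgroup.mem_centralizer_singleton_iff.2 (X.commute_pS h).eq

theorem pC_surjective : Function.Surjective X.pC := fun c => by
  obtain ⟨h, e⟩ := X.exists_pS (Subgroup.mem_centralizer_singleton_iff.1 c.2)
  exact ⟨h, Subtype.ext e⟩

theorem pC_le : X.pC.ker ≤ X.tho.ker := fun h hh => by
  have : X.pS h = 1 := congrArg Subtype.val (MonoidHom.mem_ker.1 hh)
  exact th_gen X.D X.ha X.hi (X.pS_eq_one.1 this)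

/-- The action of the centraliser. -/
noncomputable def psi : X.CS →* Cfsg.Omega (ZMod 2) (fW m) :=
  X.pC.liftOfSurjective X.pC_surjective ⟨X.tho, X.pC_le⟩

theorem psi_pC (h : HH X.a) : X.psi (X.pC h) = X.tho h :=
  X.pC.liftOfRightInverse_comp_apply _ _ ⟨X.tho, X.pC_le⟩ h

theorem psi_surjective : Function.Surjective X.psi := fun w => by
  obtain ⟨h, hh⟩ := th_surjective X.D X.ha X.hap X.hi w
  exact ⟨X.pC h, (X.psi_pC h).trans hh⟩

theorem psi_ker : X.psi.ker = X.QC := by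
  ext c
  obtain ⟨h, rfl⟩ := X.pC_surjective c
  rw [MonoidHom.mem_ker, psi_pC]
  constructor
  · exact fun hh => X.pS_mem_QS hh
  · intro hh
    obtain ⟨q, hq, e⟩ := X.mem_QS.1 hh
    have h1 : h * q⁻¹ ∈ X.pC.ker := Subtype.ext (by
      show X.pS (h * q⁻¹) = 1
      rw [map_mul, map_inv, e]
      exact mul_inv_cancel _)
    have h2 := MonoidHom.mem_ker.1 (X.pC_le h1)
    rw [map_mul, map_inv, show X.tho q = 1 from th_of_mem X.D X.ha X.hi hq, inv_one, mul_one] at h2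
    exact h2

theorem fitting_eq : generalizedFittingSubgroup X.CS = X.QC := by
  have := X.finite_SS
  have : Fact (Nat.Prime 2) := ⟨Nat.prime_two⟩
  have hs := X.hs
  have hp : IsPGroup 2 X.QC :=
    X.bigTwo.pgroup.of_equiv (Subgroup.subgroupOfEquivOfLe X.QS_le).symm
  have hcore : pCore 2 X.CS = X.QC := by
    refine le_antisymm ?_ (Cores.le_pCore hp)
    have hn : ((pCore 2 X.CS).map X.psi).Normal :=
      Subgroup.Normal.map inferInstance _ X.psi_surjective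
    rcases hn.eq_bot_or_eq_top with h | h
    · rw [Subgroup.map_eq_bot_iff, psi_ker] at h
      exact h
    · exfalso
      have hP : IsPGroup 2 ((pCore 2 X.CS).map X.psi) := (Cores.pCore_isPGroup 2).map _
      rw [h] at hP
      have hP' : IsPGroup 2 (Cfsg.Omega (ZMod 2) (fW m)) := hP.of_equiv Subgroup.topEquiv
      have hc : (Subgroup.center (Cfsg.Omega (ZMod 2) (fW m))).Normal := inferInstance
      have hnt := hP'.center_nontrivial
      rcases hc.eq_bot_or_eq_top with h' | h'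
      · rw [h'] at hnt
        exact not_nontrivial _ hnt
      · obtain ⟨u, v, huv⟩ := X.nonab
        exact huv (Subgroup.mem_center_iff.1 (h' ▸ Subgroup.mem_top v) u)
  rw [← hcore]
  refine Balance.centralizer_pCore_le_iff.1 ?_
  rw [hcore]
  intro c hc
  refine X.bigTwo.cent (c : X.SS) fun q hq => ?_
  exact congrArg Subtype.val (Subgroup.mem_centralizer_iff.1 hc ⟨q, X.QS_le hq⟩ hq).symm

/-- The hypothesis on the quotient. -/
theorem large_hyp : IsSimpleGroup X.SS ∧ ¬ IsMulCommutative X.SS ∧ ∃ z : X.SS, orderOf z = 2 ∧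
    ∃ (Q : Subgroup (Subgroup.centralizer ({z} : Set X.SS))) (_ : Q.Normal),
      generalizedFittingSubgroup (Subgroup.centralizer ({z} : Set X.SS)) = Q ∧
      IsExtraspecial 2 Q ∧ Nat.card Q = 2 ^ (2 * m + 3) ∧
      Nonempty ((Subgroup.centralizer ({z} : Set X.SS)) ⧸ Q ≃* Cfsg.Omega (ZMod 2) (fW m)) ∧
      ∃ g : X.SS, (∃ hq : g * z * g⁻¹ ∈ Subgroup.centralizer ({z} : Set X.SS),
        (⟨g * z * g⁻¹, hq⟩ : Subgroup.centralizer ({z} : Set X.SS)) ∈ Q) ∧ g * z * g⁻¹ ≠ z := by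
  have := X.finite_SS
  have : Fact (Nat.Prime 2) := ⟨Nat.prime_two⟩
  obtain ⟨g, h1, h2, h3⟩ := X.exists_g
  refine ⟨X.isSimple_SS, X.not_comm_SS, X.zS, X.orderOf_zS, X.QC, X.QC_normal, X.fitting_eq,
    ?_, ?_, ⟨(QuotientGroup.quotientMulEquivOfEq X.psi_ker.symm).trans
      (QuotientGroup.quotientKerEquivOfSurjective _ X.psi_surjective)⟩, g, ⟨X.QS_le h1, h1⟩, h3⟩
  · exact FusionP3.GenExtra.isExtraspecial_congr
      (X.isoQS.trans (Subgroup.subgroupOfEquivOfLe X.QS_le).symm) X.extraspecial_CQ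
  · rw [QC, Nat.card_congr (Subgroup.subgroupOfEquivOfLe X.QS_le).toEquiv, card_QS]

end Ctx

end Cfsg.Agent.Lib.SuzThree37
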