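import Cfsg.Agent.Lib.SuzThree37.Second
import Cfsg.Agent.Lib.SuzCent37.Main

/-!
# Conway type: the centraliser of the element of order three is perfect

The perfectness uses the structure of the centraliser of a second element in the quotient (row 5380).

Owner: helper37.
-/

set_option autoImplicit false
set_option maxHeartbeats 1000000

namespace Cfsg.Agent.Lib.SuzThree37

open Cfsg Cfsg.Agent.Lib.Co1Local52
open Cfsg.Agent.Lib.Co1Cent (V8 qf)
open scoped Matrix commutatorElement

universe u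

theorem centralizer_zpowers {S : Type u} [Group S] (x : S) :
    Subgroup.centralizer ((Subgroup.zpowers x : Subgroup S) : Set S) = Subgroup.centralizer {x} := by
  rw [Subgroup.zpowers_eq_closure, Subgroup.centralizer_closure]

/-- A subgroup that is central in its centraliser is normal there. -/
theorem subgroupOf_centralizer_normal {S : Type u} [Group S] (H : Subgroup S) :
    (H.subgroupOf (Subgroup.centralizer (H : Set S))).Normal := by
  refine ⟨fun n hn g => ?_⟩
  show (g : S) * n * (g : S)⁻¹ ∈ H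
  rw [show (g : S) * n = n * g from (Subgroup.mem_centralizer_iff.1 g.2 _ hn).symm, mul_inv_cancel_right]
  exact hn

/-- A perfect centraliser of a lifted element puts the centre into the commutator subgroup. -/
theorem central_mem_commutator {W : Type u} [Group W] {S : Type u} [Group S] (f : W →* S)
    (z₀ u : W) (hker : ∀ w, f w = 1 ↔ w ∈ Subgroup.zpowers z₀) (hz3 : z₀ ^ 3 = 1)
    (hu : u ∈ commutator W) (hf : Function.Surjective f)
    (hperf : ⁅Subgroup.centralizer ({f u} : Set S), Subgroup.centralizer ({f u} : Set S)⁆ =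
      Subgroup.centralizer ({f u} : Set S)) :
    z₀ ∈ commutator W ∨ u ∈ ⁅Subgroup.centralizer ({u} : Set W), Subgroup.centralizer ({u} : Set W)⁆ := by
  refine or_iff_not_imp_left.2 fun hz => ?_
  have triv : ∀ w ∈ commutator W, f w = 1 → w = 1 := by
    intro w hw h1
    obtain ⟨k, hk, rfl⟩ : ∃ k < 3, z₀ ^ k = w := by
      obtain ⟨i, hi⟩ := Subgroup.mem_zpowers_iff.1 ((hker w).1 h1)
      refine ⟨(i % 3).toNat, by omega, ?_⟩
      rw [← zpow_natCast, Int.toNat_of_nonneg (Int.emod_nonneg i (by norm_num)), Int.emod_def,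
        zpow_sub, zpow_mul, show (3 : ℤ) = (3 : ℕ) from rfl, zpow_natCast, hz3, one_zpow, inv_one,
        mul_one, hi]
    interval_cases k
    · exact pow_zero z₀
    · exact absurd (by rwa [pow_one] at hw) hz
    · refine absurd ?_ hz
      have := mul_mem hw hw
      rwa [← pow_add, show 2 + 2 = 3 + 1 by norm_num, pow_succ, hz3, one_mul] at this
  set D := (Subgroup.centralizer ({f u} : Set S)).comap f with hD
  have hmem : f u ∈ (⁅D, D⁆ : Subgroup W).map f := by
    rw [Subgroup.map_commutator, hD, Subgroup.map_comap_eq_self_of_surjective hf, hperf]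
    exact Subgroup.mem_centralizer_singleton_iff.2 rfl
  obtain ⟨d, hd, hdu⟩ := hmem
  have hdW : d ∈ commutator W := Subgroup.commutator_mono le_top le_top hd
  have hud : u ∈ (⁅D, D⁆ : Subgroup W) := by
    rw [mul_inv_eq_one.1 (triv (u * d⁻¹) (mul_mem hu (inv_mem hdW))
      (by rw [map_mul, map_inv, hdu, mul_inv_cancel]))]
    exact hd
  refine Subgroup.commutator_mono ?_ ?_ hud <;>
  · intro g hg
    have hg' : f g * f u = f u * f g := Subgroup.mem_centralizer_singleton_iff.1 hg
    have h1 : g * u * g⁻¹ * u⁻¹ ∈ commutator W := by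
      rw [← commutatorElement_def]
      exact Subgroup.commutator_mem_commutator (Subgroup.mem_top _) (Subgroup.mem_top _)
    have h2 := triv _ h1 (by rw [map_mul, map_mul, map_mul, map_inv, map_inv, hg']; group)
    exact Subgroup.mem_centralizer_singleton_iff.2 (mul_inv_eq_iff_eq_mul.1 (mul_inv_eq_one.1 h2))

/-- The data for the element. -/
@[reducible] def mkCtx {G : Type u} [Group G] {E : Env G} {a : E.C} (ha : E.rho a = Three.D.σ) (hap : a ^ 3 = 1)
    (W : Swap E) : Ctx E 3 2 where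
  D := Three.D
  a := a
  ha := ha
  hap := hap
  hm := one_le_two
  hi := Three.index_W
  hs := Three.simple_nonab.1
  nonab := Three.simple_nonab.2
  irr := Three.irr
  W := W
  hw := ⟨_, Three.emb_w0⟩
  fusion := Three.fusion

variable {G : Type u} [Group G] [Finite G] {E : Env G} {a : E.C} (ha : E.rho a = Three.D.σ)
  (hap : a ^ 3 = 1) (W : Swap E)

local notation "𝐗" => mkCtx ha hap W

include ha in
theorem wc_conj_second {u : HH a} (hu : E.rho (u : E.C) = Three.σ') {q : E.C} (hq : q ∈ E.Q)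
    (hqa : q ∈ HH a) :
    wc Three.D ((u : E.C) * q * (u : E.C)⁻¹) =
      Three.P *ᵥ (Three.N *ᵥ (Three.E *ᵥ wc Three.D q)) := by
  rw [wc_conj Three.D ha Three.index_W u hq hqa, th_coe, Datum.mv_res, Datum.resFun, toCO_coe, hu]
  rfl

theorem sum_cancel {ι : Type} (w x y : ι → ZMod 2) : w + x = w + y + x + y := by
  funext i
  simp only [Pi.add_apply]
  generalize w i = a
  generalize x i = b
  generalize y i = c
  revert a b c; decide

/-- The commutator is not commutative. -/
theorem comm_na {u : HH a} (hu : E.rho (u : E.C) = Three.σ') :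
    ¬ IsMulCommutative ↥⁅(𝐗).QC, Subgroup.zpowers ((𝐗).pC u)⁆ := by
  intro hc
  obtain ⟨w₁, w₂, hw⟩ := dd_pair
  have hel : ∀ w, ∃ k : HH a, (k : E.C) ∈ E.Q ∧ E.co (k : E.C) =
      Three.E *ᵥ (w + Three.P *ᵥ (Three.N *ᵥ (Three.E *ᵥ w))) ∧
      (𝐗).pC k ∈ ⁅(𝐗).QC, Subgroup.zpowers ((𝐗).pC u)⁆ := by
    intro w
    obtain ⟨x, hx, hxa, hxw⟩ := exists_wc Three.D ha hap w
    have hm : (u : E.C) * x⁻¹ * (u : E.C)⁻¹ ∈ E.Q := E.conj_mem_Q _ (inv_mem hx)
    refine ⟨⁅(⟨x, hxa⟩ : HH a), u⁆, ?_, ?_, ?_⟩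
    · show x * (u : E.C) * x⁻¹ * (u : E.C)⁻¹ ∈ E.Q
      simpa [mul_assoc] using mul_mem hx hm
    · show E.co (x * (u : E.C) * x⁻¹ * (u : E.C)⁻¹) = _
      have hma : (u : E.C) * x⁻¹ * (u : E.C)⁻¹ ∈ HH a :=
        mul_mem (mul_mem u.2 (inv_mem hxa)) (inv_mem u.2)
      rw [show x * (u : E.C) * x⁻¹ * (u : E.C)⁻¹ = x * ((u : E.C) * x⁻¹ * (u : E.C)⁻¹) by group,
        ← emb_wc Three.D ha (mul_mem hx hm) (mul_mem hxa hma), wc_mul Three.D hx hm,
        wc_conj_second ha hu (inv_mem hx) (inv_mem hxa),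
        show wc Three.D x⁻¹ = wc Three.D x by rw [wc, wc, E.co_inv hx], hxw]
      rfl
    · rw [map_commutatorElement]
      exact Subgroup.commutator_mem_commutator ((𝐗).mem_QS.2 ⟨⟨x, hxa⟩, hx, rfl⟩)
        (Subgroup.mem_zpowers _)
  obtain ⟨k₁, h₁, c₁, m₁⟩ := hel w₁
  obtain ⟨k₂, h₂, c₂, m₂⟩ := hel w₂
  have hcm : k₂ * k₁ = k₁ * k₂ := by
    refine (𝐗).pS_inj (mul_mem h₂ h₁) (mul_mem h₁ h₂) ?_
    have := congrArg (fun x : ↥⁅(𝐗).QC, Subgroup.zpowers ((𝐗).pC u)⁆ => ((x : (𝐗).CS) : (𝐗).SS))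
      (hc.is_comm.comm ⟨_, m₂⟩ ⟨_, m₁⟩)
    simp only [Subgroup.coe_mul] at this
    rw [map_mul, map_mul]
    exact this
  have := (E.comm_iff h₁ h₂).1 (congrArg Subtype.val hcm)
  rw [c₁, c₂] at this
  exact one_ne_zero (hw.symm.trans this)

/-- The commutator of the extraspecial group of the quotient with the second element. -/
theorem card_comm {u : HH a} (hu : E.rho (u : E.C) = Three.σ') (hu3 : u ^ 3 = 1) :
    Nat.card ↥⁅(𝐗).QC, Subgroup.zpowers ((𝐗).pC u)⁆ = 8 ∧
      ¬ IsMulCommutative ↥⁅(𝐗).QC, Subgroup.zpowers ((𝐗).pC u)⁆ := by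
  let K0 : Subgroup (HH a) :=
    { carrier := {q | (q : E.C) ∈ E.Q ∧ wc Three.D (q : E.C) ∈ dd.range}
      one_mem' := ⟨one_mem _, 0, by
        rw [map_zero, OneMemClass.coe_one, wc, E.co_one, Matrix.mulVec_zero]⟩
      mul_mem' := by
        rintro x y ⟨hx, hx'⟩ ⟨hy, hy'⟩
        exact ⟨mul_mem hx hy, by rw [Subgroup.coe_mul, wc_mul Three.D hx hy]; exact add_mem hx' hy'⟩
      inv_mem' := by
        rintro x ⟨hx, hx'⟩
        exact ⟨inv_mem hx, by rw [InvMemClass.coe_inv, wc, E.co_inv hx]; exact hx'⟩ }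
  have hK : Nat.card K0 ≤ 8 := by
    let φ : K0 →* Multiplicative dd.range := MonoidHom.mk' (fun q => Multiplicative.ofAdd ⟨_, q.2.2⟩)
      fun q r => congrArg Multiplicative.ofAdd (Subtype.ext (wc_mul Three.D q.2.1 r.2.1))
    have hk : Nat.card φ.ker ≤ 2 := by
      have hsub : (φ.ker : Set K0) ⊆ {q | ((q : HH a) : E.C) = 1 ∨ ((q : HH a) : E.C) = E.zq} := by
        intro q hq
        exact wc_eq_zero Three.D ha q.2.1 (q : HH a).2
          (congrArg Subtype.val (Multiplicative.ofAdd.injective hq))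
      rw [← SetLike.coe_sort_coe, Nat.card_coe_set_eq]
      refine (Set.ncard_le_ncard hsub (Set.toFinite _)).trans ?_
      refine (Set.ncard_le_ncard_of_injOn (fun q : K0 => ((q : HH a) : E.C))
        (fun q hq => (show _ ∈ ({1, E.zq} : Set E.C) from hq))
        (fun q _ r _ e => Subtype.ext (Subtype.ext e)) (Set.toFinite _)).trans ?_
      exact (Set.ncard_insert_le _ _).trans (by rw [Set.ncard_singleton])
    have hd : Nat.card dd.range ≤ 4 := by
      refine le_trans (le_of_eq ?_) dd_card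
      rw [← Set.ncard_coe_finset, Finset.coe_image, Finset.coe_univ, Set.image_univ,
        ← Nat.card_coe_set_eq]
      rfl
    have h := Subgroup.card_mul_index φ.ker
    rw [Subgroup.index_ker] at h
    have hr : Nat.card φ.range ≤ 4 := (Subgroup.card_le_card_group _).trans
      (le_of_eq_of_le (Nat.card_congr Multiplicative.toAdd) hd)
    rw [← h]
    exact (Nat.mul_le_mul hk hr)
  have hle : ⁅(𝐗).QC, Subgroup.zpowers ((𝐗).pC u)⁆ ≤ K0.map (𝐗).pC := by
    rw [Subgroup.commutator_le]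
    intro c hc y hy
    obtain ⟨q, hq, e⟩ := (𝐗).mem_QS.1 hc
    have ec : c = (𝐗).pC q := Subtype.ext e.symm
    obtain ⟨i, rfl⟩ := Subgroup.mem_zpowers_iff.1 hy
    rw [ec, ← map_zpow, ← map_commutatorElement]
    refine Subgroup.mem_map_of_mem _ ?_
    have hd : ∀ h : HH a, (∀ w, w + mv (th Three.D ha Three.index_W h :
        Cfsg.isometryGroup (ZMod 2) (fW 2)) w ∈ dd.range) → ⁅q, h⁆ ∈ K0 := by
      intro h hh
      have hm : (h : E.C) * (q : E.C)⁻¹ * (h : E.C)⁻¹ ∈ E.Q := E.conj_mem_Q _ (inv_mem hq)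
      have eq' : ((⁅q, h⁆ : HH a) : E.C) = (q : E.C) * ((h : E.C) * (q : E.C)⁻¹ * (h : E.C)⁻¹) := by
        simp [commutatorElement_def, mul_assoc]
      refine ⟨by rw [eq']; exact mul_mem hq hm, ?_⟩
      rw [eq', wc_mul Three.D hq hm, wc_conj Three.D ha Three.index_W h (inv_mem hq) (inv_mem q.2),
        show wc Three.D (q : E.C)⁻¹ = wc Three.D (q : E.C) by rw [wc, wc, E.co_inv hq]]
      exact hh _
    refine hd _ fun w => ?_
    have hth : ∀ w, mv (th Three.D ha Three.index_W u : Cfsg.isometryGroup (ZMod 2) (fW 2)) w =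
        w + dd w := by
      intro w
      rw [th_coe, Datum.mv_res, Datum.resFun, toCO_coe, hu]
      show _ = w + (w + _)
      rw [← add_assoc, show w + w = 0 from funext fun _ => CharTwo.add_self_eq_zero _, zero_add]
      rfl
    obtain ⟨n, hn⟩ : ∃ n : ℕ, u ^ n = u ^ i := by
      refine ⟨(i % 3).toNat, ?_⟩
      rw [← zpow_natCast, Int.toNat_of_nonneg (Int.emod_nonneg i (by norm_num)), Int.emod_def,
        zpow_sub, zpow_mul, show (3 : ℤ) = (3 : ℕ) from rfl, zpow_natCast, hu3, one_zpow, inv_one,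
        mul_one]
    rw [← hn]
    clear hn
    induction n generalizing w with
    | zero => exact ⟨0, by rw [map_zero, pow_zero, map_one, OneMemClass.coe_one, mv_one,
        show w + w = 0 from funext fun _ => CharTwo.add_self_eq_zero _]⟩
    | succ n ih =>
      rw [pow_succ, map_mul, Subgroup.coe_mul, mv_mul, hth]
      have h1 := ih (w + dd w)
      have h2 : dd w ∈ dd.range := ⟨w, rfl⟩
      convert add_mem h1 h2 using 1
      generalize mv _ (w + dd w) = x
      generalize dd w = y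
      exact sum_cancel w x y
  have hna := comm_na ha hap W hu
  refine ⟨?_, hna⟩
  have h8 : Nat.card ↥⁅(𝐗).QC, Subgroup.zpowers ((𝐗).pC u)⁆ ≤ 8 :=
    (Subgroup.card_le_of_le hle).trans (((Nat.le_of_dvd Nat.card_pos (Subgroup.card_map_dvd _ _))).trans hK)
  have := (𝐗).QC_normal
  have hp : IsPGroup 2 ↥⁅(𝐗).QC, Subgroup.zpowers ((𝐗).pC u)⁆ :=
    ((𝐗).bigTwo.pgroup.of_equiv (Subgroup.subgroupOfEquivOfLe (𝐗).QS_le).symm).to_le
      (Subgroup.commutator_le_left _ _)
  have : Fact (Nat.Prime 2) := ⟨Nat.prime_two⟩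
  obtain ⟨n, hn⟩ := IsPGroup.iff_card.1 hp
  rcases n with _ | _ | _ | _ | n
  · refine absurd ?_ hna
    have := (Nat.card_eq_one_iff_unique.1 (hn.trans (pow_zero 2))).1
    exact ⟨⟨fun _ _ => Subsingleton.elim _ _⟩⟩
  · have := isCyclic_of_prime_card (p := 2) (hn.trans (pow_one 2))
    exact (hna inferInstance).elim
  · exact absurd (IsPGroup.isMulCommutative_of_card_eq_prime_sq (p := 2) hn) hna
  · exact hn.trans (by norm_num)
  · exfalso
    rw [hn] at h8
    simp only [pow_succ] at h8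
    have := Nat.one_le_two_pow (n := n)
    omega

/-- The centraliser of the element is quasisimple. -/
theorem quasisimple (hU : SuzCent37.U43Type.{u}) :
    Cfsg.IsQuasisimple ↥(𝐗).AA := by
  have hfin := (𝐗).finite_SS
  obtain ⟨u, h, hu, hu3, hinv, t, ht⟩ := exists_second ha hap
  have hS := (𝐗).isSimple_SS
  have hS2 := (𝐗).not_comm_SS
  set W' := (𝐗).AA
  have haA : (a : G) ∈ W' := Subgroup.mem_centralizer_singleton_iff.2 rfl
  set z₀ : W' := ⟨(a : G), haA⟩ with hz₀
  let f : W' →* (𝐗).SS := QuotientGroup.mk' _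
  have hfs : Function.Surjective f := QuotientGroup.mk'_surjective _
  have hker : ∀ w, f w = 1 ↔ w ∈ Subgroup.zpowers z₀ := fun w => by
    show (QuotientGroup.mk w : (𝐗).SS) = 1 ↔ _
    rw [QuotientGroup.eq_one_iff, Subgroup.mem_subgroupOf, Subgroup.mem_zpowers_iff,
      Subgroup.mem_zpowers_iff]
    refine exists_congr fun i => ?_
    rw [← Subtype.coe_inj, SubgroupClass.coe_zpow]
  have hz3 : z₀ ^ 3 = 1 := Subtype.ext (congrArg (fun x : E.C => (x : G)) hap :)
  have huW : (𝐗).toA u ∈ commutator W' := by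
    have h1 : (⁅h, u⁆ : HH a) = u := by
      rw [commutatorElement_def, hinv, ← mul_inv_rev]
      refine inv_eq_of_mul_eq_one_left ?_
      rw [← pow_two, ← pow_succ', hu3]
    rw [← h1, map_commutatorElement]
    exact Subgroup.commutator_mem_commutator (Subgroup.mem_top _) (Subgroup.mem_top _)
  obtain ⟨hc8, hcna⟩ := card_comm ha hap W hu hu3
  obtain ⟨gg, hg1, -, hg3⟩ := (𝐗).exists_g
  have : Fact (Nat.Prime 2) := ⟨Nat.prime_two⟩
  have : Fact (Nat.Prime 3) := ⟨Nat.prime_three⟩
  have hY3 : Nat.card ↥(Subgroup.zpowers ((𝐗).pC u)) = 3 := by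
    rw [Nat.card_zpowers]
    refine orderOf_eq_prime (by rw [← map_pow, hu3, map_one]) fun e => ?_
    rw [e, Subgroup.zpowers_one_eq_bot, Subgroup.commutator_bot_right, Subgroup.card_bot] at hc8
    norm_num at hc8
  have hnY : ∀ (C : Subgroup (𝐗).SS) (Y : Subgroup C),
      ((Y.map C.subtype).subgroupOf (Subgroup.centralizer ((Y.map C.subtype) : Set (𝐗).SS))).Normal :=
    fun C Y => subgroupOf_centralizer_normal _
  letI := (𝐗).QC_normal
  letI : Fintype (GaloisField 3 2) := Fintype.ofFinite _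
  have := hnY (𝐗).CS (Subgroup.zpowers ((𝐗).pC u))
  have hperf0 := (SuzCent37.of_u43 hU (𝐗).zS (𝐗).orderOf_zS (𝐗).QC (𝐗).fitting_eq
    (FusionP3.GenExtra.isExtraspecial_congr
      ((𝐗).isoQS.trans (Subgroup.subgroupOfEquivOfLe (𝐗).QS_le).symm) (𝐗).extraspecial_CQ)
    (by rw [Ctx.QC, Nat.card_congr (Subgroup.subgroupOfEquivOfLe (𝐗).QS_le).toEquiv, (𝐗).card_QS])
    ((QuotientGroup.quotientMulEquivOfEq (𝐗).psi_ker.symm).trans
      (QuotientGroup.quotientKerEquivOfSurjective _ (𝐗).psi_surjective))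
    ⟨gg, ⟨(𝐗).QS_le hg1, hg1⟩, hg3⟩ (Subgroup.zpowers ((𝐗).pC u)) hY3 hc8 hcna
    (GaloisField 3 2) (by
      rw [← Nat.card_eq_fintype_card, GaloisField.card 3 2 (by norm_num)]
      norm_num)).1.1
  have hperf : ⁅Subgroup.centralizer ({f ((𝐗).toA u)} : Set (𝐗).SS),
      Subgroup.centralizer ({f ((𝐗).toA u)} : Set (𝐗).SS)⁆ =
      Subgroup.centralizer ({f ((𝐗).toA u)} : Set (𝐗).SS) := by
    have e : Subgroup.centralizer (((Subgroup.zpowers ((𝐗).pC u)).map (𝐗).CS.subtype : Subgroup (𝐗).SS) :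
        Set (𝐗).SS) = Subgroup.centralizer ({f ((𝐗).toA u)} : Set (𝐗).SS) := by
      rw [MonoidHom.map_zpowers, centralizer_zpowers]
      rfl
    rw [← e, ← Subgroup.map_subtype_commutator, Group.isPerfect_def.1 hperf0, ← MonoidHom.range_eq_map,
      Subgroup.range_subtype]
  have hzW : z₀ ∈ commutator W' := by
    refine (central_mem_commutator f z₀ _ hker hz3 huW hfs hperf).elim id fun hmem => ?_
    have hmem' : ((a : G)) ∈ (commutator W').map W'.subtype := by
      rw [Subgroup.map_subtype_commutator]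
      have h1 := Subgroup.mem_map_of_mem
        ((MulAut.conj ((t : E.C) : G)).toMonoidHom.comp W'.subtype) hmem
      rw [Subgroup.map_commutator] at h1
      have hta : ((t : E.C) : G) * ((u : E.C) : G) * ((t : E.C) : G)⁻¹ = (a : G) :=
        congrArg Subtype.val ht
      have e : ((MulAut.conj ((t : E.C) : G)).toMonoidHom.comp W'.subtype) ((𝐗).toA u) = (a : G) := hta
      rw [e] at h1
      refine Subgroup.commutator_mono ?_ ?_ h1 <;>
      · rintro _ ⟨c, hc, rfl⟩
        refine Subgroup.mem_centralizer_singleton_iff.2 ?_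
        show ((t : E.C) : G) * (c : G) * ((t : E.C) : G)⁻¹ * (a : G) =
          (a : G) * (((t : E.C) : G) * (c : G) * ((t : E.C) : G)⁻¹)
        rw [← hta, conj_mul, conj_mul]
        exact congrArg (fun x : G => ((t : E.C) : G) * x * ((t : E.C) : G)⁻¹)
          (congrArg Subtype.val (Subgroup.mem_centralizer_singleton_iff.1 hc))
    obtain ⟨w, hw, e⟩ := hmem'
    rwa [show z₀ = w from Subtype.ext e.symm]
  have hperfW : commutator W' = ⊤ := by
    refine eq_top_iff.2 fun w _ => ?_
    have htop : (commutator W').map f = ⊤ := by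
      rw [commutator_def, Subgroup.map_commutator, Subgroup.map_top_of_surjective _ hfs, ← commutator_def]
      refine (hS.eq_bot_or_eq_top_of_normal (commutator (𝐗).SS) inferInstance).resolve_left fun hb => hS2 ?_
      rw [commutator_eq_bot_iff_center_eq_top] at hb
      exact ⟨⟨fun x y => Subgroup.mem_center_iff.1 (hb ▸ Subgroup.mem_top y : y ∈ Subgroup.center _) x⟩⟩
    obtain ⟨v, hv, ev⟩ : f w ∈ (commutator W').map f := by rw [htop]; trivial
    have : v⁻¹ * w ∈ Subgroup.zpowers z₀ := (hker _).1 (by rw [map_mul, map_inv, ev, inv_mul_cancel])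
    rw [← mul_inv_cancel_left v w]
    exact mul_mem hv ((Subgroup.zpowers_le.2 hzW) this)
  refine ⟨Group.isPerfect_def.2 hperfW, ?_⟩
  have hcen : Subgroup.center W' = f.ker := by
    refine le_antisymm (fun w hw => ?_) fun w hw => ?_
    · have hn : ((Subgroup.center W').map f).Normal := Subgroup.Normal.map inferInstance _ hfs
      rcases hS.eq_bot_or_eq_top_of_normal _ hn with hb | hb
      · exact (Subgroup.map_eq_bot_iff _).1 hb hw
      · refine absurd ⟨⟨fun x y => ?_⟩⟩ hS2
        obtain ⟨x', rfl⟩ := hfs x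
        obtain ⟨y', hy', rfl⟩ : y ∈ (Subgroup.center W').map f := by rw [hb]; trivial
        rw [← map_mul, ← map_mul, Subgroup.mem_center_iff.1 hy' x']
    · obtain ⟨i, hi⟩ := Subgroup.mem_zpowers_iff.1 ((hker w).1 (MonoidHom.mem_ker.1 hw))
      rw [← hi]
      refine Subgroup.mem_center_iff.2 fun g => ?_
      exact ((show Commute g z₀ from
        Subtype.ext (Subgroup.mem_centralizer_singleton_iff.1 g.2)).zpow_right i).eq
  let eqS : W' ⧸ Subgroup.center W' ≃* (𝐗).SS :=
    (QuotientGroup.quotientMulEquivOfEq hcen).trans (QuotientGroup.quotientKerEquivOfSurjective f hfs)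
  exact eqS.isSimpleGroup

end Cfsg.Agent.Lib.SuzThree37
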