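import Cfsg.Statements.S5381
import Cfsg.Agent.Lib.SuzThree37.Build
import Cfsg.Agent.Lib.SuzThree37.Perfect

/-!
# Conway type: the centraliser of an element of order three with a quaternion commutator is `3·Suz`

`SuzUniq` is the uniqueness of the Suzuki group (the statement of row 1719), `SuzCent37.U43Type` the
recognition of `U₄(3)` (the statement of row 5390).

Owner: helper37.
-/

set_option autoImplicit false

namespace Cfsg.Agent.Lib.SuzThree37

open Cfsg.Agent.Lib.Co1Local52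
open scoped commutatorElement

universe u

/-- The uniqueness of the Suzuki group. -/
def SuzUniq : Prop :=
  ∀ {G : Type u} [Group G] [Finite G] (z : G) (hz : orderOf z = 2) (Q : Subgroup (Subgroup.centralizer ({z} : Set G))) [Q.Normal] (hF : Cfsg.generalizedFittingSubgroup (Subgroup.centralizer ({z} : Set G)) = Q) (hQ : Cfsg.IsExtraspecial 2 Q) (hcard : Nat.card Q = 2 ^ 7) (e : (Subgroup.centralizer ({z} : Set G)) ⧸ Q ≃* Cfsg.Omega (ZMod 2) (Cfsg.quadFormMinus 2 (ZMod 2) 1 1)) (hnwc : ∃ g : G, (∃ hq : g * z * g⁻¹ ∈ Subgroup.centralizer ({z} : Set G), (⟨g * z * g⁻¹, hq⟩ : Subgroup.centralizer ({z} : Set G)) ∈ Q) ∧ g * z * g⁻¹ ≠ z), Cfsg.Spor.IsoSuz G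

theorem iso_suz (hS : SuzUniq.{u}) {G : Type u} [Group G] [Finite G] {E : Env G} {p : ℕ}
    (X : Ctx E p 2) : Cfsg.Spor.IsoSuz X.SS := by
  have := X.finite_SS
  obtain ⟨-, -, z, hz, Q, hQn, hF, hQ, hc, ⟨e⟩, hw⟩ := X.large_hyp
  exact hS z hz Q hF hQ hc e hw

theorem final (hS : SuzUniq.{u}) (hU : SuzCent37.U43Type.{u}) {G : Type u} [Group G] [Finite G]
    {E : Env G} {a : E.C} (ha : E.rho a = Three.D.σ) (hap : a ^ 3 = 1) (K : Subgroup G)
    (hK : K = Subgroup.centralizer ({(a : G)} : Set G)) (N : Subgroup K) [N.Normal]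
    (hN : N = (Subgroup.zpowers (a : G)).subgroupOf K) :
    Cfsg.IsQuasisimple ↥K ∧ Cfsg.Spor.IsoSuz (↥K ⧸ N) := by
  subst hK hN
  obtain ⟨W⟩ := exists_swap_w0 E
  exact ⟨quasisimple ha hap W hU, iso_suz hS (mkCtx ha hap W)⟩

/-- The statement of row 5381 from the uniqueness of the Suzuki group and the recognition of `U₄(3)`. -/
theorem of_suz (hS : SuzUniq.{u}) (hU : SuzCent37.U43Type.{u}) {G : Type u} [Group G] [Finite G] (z : G) (hz : orderOf z = 2) (Q : Subgroup (Subgroup.centralizer ({z} : Set G))) [Q.Normal] (hF : Cfsg.generalizedFittingSubgroup (Subgroup.centralizer ({z} : Set G)) = Q) (hQ : Cfsg.IsExtraspecial 2 Q) (hcard : Nat.card Q = 2 ^ 9) (e : (Subgroup.centralizer ({z} : Set G)) ⧸ Q ≃* Cfsg.Omega (ZMod 2) (Cfsg.quadFormPlus 4 (ZMod 2))) (hnwc : ∃ g : G, (∃ hq : g * z * g⁻¹ ∈ Subgroup.centralizer ({z} : Set G), (⟨g * z * g⁻¹, hq⟩ : Subgroup.centralizer ({z} : Set G)) ∈ Q) ∧ g * z * g⁻¹ ≠ z) (X : Subgroup (Subgroup.centralizer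 ({z} : Set G))) (hX : Nat.card X = 3) (hQX : Nat.card ↥⁅Q, X⁆ = 8) (hQXna : ¬ IsMulCommutative ↥⁅Q, X⁆) [((X.map (Subgroup.subtype (Subgroup.centralizer ({z} : Set G)))).subgroupOf (Subgroup.centralizer ((X.map (Subgroup.subtype (Subgroup.centralizer ({z} : Set G)))) : Set G))).Normal] :
    Cfsg.IsQuasisimple ↥(Subgroup.centralizer ((X.map (Subgroup.subtype (Subgroup.centralizer ({z} : Set G)))) : Set G)) ∧ Cfsg.Spor.IsoSuz (↥(Subgroup.centralizer ((X.map (Subgroup.subtype (Subgroup.centralizer ({z} : Set G)))) : Set G)) ⧸ (X.map (Subgroup.subtype (Subgroup.centralizer ({z} : Set G)))).subgroupOf (Subgroup.centralizer ((X.map (Subgroup.subtype (Subgroup.centralizer ({z} : Set G)))) : Set G))) := by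
  obtain ⟨E, hEz, hEQ⟩ := exists_env z hz Q hF hQ hcard e hnwc
  subst hEz
  have : Fact (Nat.Prime 3) := ⟨Nat.prime_three⟩
  obtain ⟨x, hxX, hx1⟩ : ∃ x ∈ X, x ≠ 1 := by
    by_contra hcon
    push Not at hcon
    rw [(Subgroup.eq_bot_iff_forall _).2 hcon, Subgroup.card_bot] at hX
    norm_num at hX
  have hx3 : x ^ 3 = 1 := by
    have := pow_card_eq_one' (G := X) (x := ⟨x, hxX⟩)
    rw [hX] at this
    exact congrArg Subtype.val this
  have hXz : X = Subgroup.zpowers x := by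
    refine (Subgroup.eq_of_le_of_card_ge (Subgroup.zpowers_le.2 hxX) ?_).symm
    rw [hX, Nat.card_zpowers, orderOf_eq_prime hx3 hx1]
  set A := (⁅Q, X⁆).map (Subgroup.subtype (Subgroup.centralizer ({E.z} : Set G))) with hA
  obtain ⟨E', a', hz', ha', hσ, hap, -⟩ := exists_ctx_env E x hx3 hx1 A
    (hEQ ▸ Subgroup.map_mono (Subgroup.commutator_le_left Q X))
    (by rw [hA, Subgroup.card_map_of_injective (Subgroup.subtype_injective _), hQX])
    (by
      by_contra hcon
      push Not at hcon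
      exact hQXna ⟨⟨fun a b => Subtype.ext (Subtype.ext (hcon _ ⟨a.1, a.2, rfl⟩ _ ⟨b.1, b.2, rfl⟩).eq)⟩⟩)
    (fun q hq => by
      have hq' : q ∈ Q := by
        have : (q : G) ∈ Q.map (Subgroup.centralizer ({E.z} : Set G)).subtype := hEQ ▸ ⟨q, hq, rfl⟩
        obtain ⟨q', hq', e'⟩ := this
        rwa [← show q' = q from Subtype.ext e']
      exact ⟨⁅q, x⁆, Subgroup.commutator_mem_commutator hq' hxX, by rw [commutatorElement_def]; rfl⟩)
  have hmap : X.map (Subgroup.subtype (Subgroup.centralizer ({E.z} : Set G))) =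
      Subgroup.zpowers (a' : G) := by
    rw [hXz, MonoidHom.map_zpowers, ha']
    rfl
  refine final hS hU (E := E') (a := a') hσ hap _ ?_ _ ?_
  · rw [hmap, centralizer_zpowers]
  · rw [hmap]

end Cfsg.Agent.Lib.SuzThree37
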