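import Cfsg.Agent.Lib.SuzThree37.Setup
import Cfsg.Agent.Lib.Co1Local52.Three

/-!
# Conway type: isometries with a one-plane commutator are conjugate to the standard element

Owner: helper37.
-/

set_option autoImplicit false

namespace Cfsg.Agent.Lib.SuzThree37.Norm

open Cfsg Cfsg.Agent.Lib.Co1Local52
open Cfsg.Agent.Lib.Co1Cent (V8 qf)
open scoped Matrix

theorem pol_right (a b c : V8) : pol qf a (b + c) = pol qf a b + pol qf a c := by
  rw [pol_comm' a, Three.pol_add_left, pol_comm' b, pol_comm' c]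

theorem qf_add (a b : V8) : qf (a + b) = qf a + qf b + pol qf a b := by
  rw [pol]
  generalize qf (a + b) = x
  generalize qf a = y
  generalize qf b = w
  revert x y w; decide

theorem z2 : ∀ a : ZMod 2, a = 0 ∨ a = 1 := by decide

theorem test_one : ((List.range 256).all fun a => !(qn a) || Nat.beq a 17 || pn a 17 ||
    (List.range 256).any fun r => qn r && pn a r && pn r 17) = true := by
  decide +kernel

theorem test_two : ((List.range 256).all fun a => !(qn a) || !(pn 17 a) || Nat.beq a 35 || pn a 35 ||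
    (List.range 256).any fun r => qn r && pn r 17 && pn a r && pn r 35) = true := by
  decide +kernel

/-- A reflection exchanging two non-orthogonal non-singular vectors. -/
theorem exists_refl_pair {a b : V8} (ha : qf a = 1) (hb : qf b = 1) (hab : pol qf a b = 1) :
    ∃ τ : Cfsg.isometryGroup (ZMod 2) qf, mv τ a = b ∧
      ∀ c, pol qf c a = pol qf c b → mv τ c = c := by
  obtain ⟨r, -, hr⟩ := exists_refl8 (a + b)
    (by show qf (a + b) = 1; rw [qf_add, ha, hb, hab]; decide)
  refine ⟨r, ?_, fun c hc => ?_⟩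
  · rw [hr, reflFun, show pol f8 (a + b) a = 1 from by
      show pol qf (a + b) a = 1
      rw [Three.pol_add_left, qf_diag, pol_comm' b, hab]; decide, one_smul, ← add_assoc,
      Co1Cent.two_vanish, zero_add]
  · rw [hr, reflFun, show pol f8 (a + b) c = 0 from by
      show pol qf (a + b) c = 0
      rw [Three.pol_add_left, pol_comm' a, pol_comm' b, hc, CharTwo.add_self_eq_zero],
      zero_smul, add_zero]

theorem qn_of {a : ℕ} (h : qf (Co1Cent.dec a) = 1) : qn a = true := by
  rw [qf_dec] at h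
  by_contra hc
  rw [if_neg hc] at h
  exact zero_ne_one h

theorem pn_of {a b : ℕ} (h : pol qf (Co1Cent.dec a) (Co1Cent.dec b) = 1) : pn a b = true := by
  rw [pol_dec] at h
  by_contra hc
  rw [if_neg hc] at h
  exact zero_ne_one h

theorem move_one (p : V8) (hp : qf p = 1) :
    ∃ τ : Cfsg.isometryGroup (ZMod 2) qf, mv τ p = Co1Cent.dec 17 := by
  rw [← dec_enc8 p] at hp ⊢
  generalize enc8' p = a at hp ⊢
  have h := List.all_eq_true.mp test_one a (List.mem_range.mpr a.2)
  simp only [Nat.beq_eq, Bool.or_eq_true, Bool.and_eq_true, List.any_eq_true, List.mem_range,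
    Bool.not_eq_true', qn_of hp, Bool.true_eq_false, false_or] at h
  have h17 : qf (Co1Cent.dec 17) = 1 := by rw [qf_dec]; rfl
  rcases h with (h | h) | ⟨r, -, ⟨hr, har⟩, hr17⟩
  · exact ⟨1, by rw [mv_one, h]⟩
  · obtain ⟨τ, hτ, -⟩ := exists_refl_pair hp h17 (by rw [pol_dec, h]; rfl)
    exact ⟨τ, hτ⟩
  · have hr' : qf (Co1Cent.dec r) = 1 := by rw [qf_dec, hr]; rfl
    obtain ⟨τ, hτ, -⟩ := exists_refl_pair hp hr' (by rw [pol_dec, har]; rfl)
    obtain ⟨τ', hτ', -⟩ := exists_refl_pair hr' h17 (by rw [pol_dec, hr17]; rfl)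
    exact ⟨τ' * τ, by rw [mv_mul, hτ, hτ']⟩

theorem move_two (q : V8) (hq : qf q = 1) (hpq : pol qf (Co1Cent.dec 17) q = 1) :
    ∃ τ : Cfsg.isometryGroup (ZMod 2) qf, mv τ (Co1Cent.dec 17) = Co1Cent.dec 17 ∧
      mv τ q = Co1Cent.dec 35 := by
  rw [← dec_enc8 q] at hq hpq ⊢
  generalize enc8' q = a at hq hpq ⊢
  have h := List.all_eq_true.mp test_two a (List.mem_range.mpr a.2)
  simp only [Nat.beq_eq, Bool.or_eq_true, Bool.and_eq_true, List.any_eq_true, List.mem_range,
    Bool.not_eq_true', qn_of hq, pn_of hpq, Bool.true_eq_false, false_or] at h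
  have h35 : qf (Co1Cent.dec 35) = 1 := by rw [qf_dec]; rfl
  have hp35 : pol qf (Co1Cent.dec 17) (Co1Cent.dec 35) = 1 := by rw [pol_dec]; rfl
  rcases h with (h | h) | ⟨r, -, ⟨⟨hr, hr17⟩, har⟩, hr35⟩
  · exact ⟨1, mv_one _, by rw [mv_one, h]⟩
  · obtain ⟨τ, hτ, hfix⟩ := exists_refl_pair hq h35 (by rw [pol_dec, h]; rfl)
    exact ⟨τ, hfix _ (hpq.trans hp35.symm), hτ⟩
  · have hr' : qf (Co1Cent.dec r) = 1 := by rw [qf_dec, hr]; rfl
    have hpr : pol qf (Co1Cent.dec 17) (Co1Cent.dec r) = 1 := by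
      rw [pol_comm', pol_dec, hr17]; rfl
    obtain ⟨τ, hτ, hfix⟩ := exists_refl_pair hq hr' (by rw [pol_dec, har]; rfl)
    obtain ⟨τ', hτ', hfix'⟩ := exists_refl_pair hr' h35 (by rw [pol_dec, hr35]; rfl)
    refine ⟨τ' * τ, ?_, by rw [mv_mul, hτ, hτ']⟩
    rw [mv_mul, hfix _ (hpq.trans hpr.symm), hfix' _ (hpr.trans hp35.symm)]

theorem sigma_formula : ∀ v : V8, Three.M *ᵥ v = v + (pol qf v (Co1Cent.dec 17) + pol qf v (Co1Cent.dec 35)) • Co1Cent.dec 17 +
    pol qf v (Co1Cent.dec 35) • Co1Cent.dec 35 := by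
  decide +kernel

theorem zero_one_smul (x : V8) : (0 : ZMod 2) • x = 0 ∧ (1 : ZMod 2) • x = x :=
  ⟨zero_smul _ x, one_smul _ x⟩

/-- An element of order three moving the space inside four vectors with a non-degenerate plane is conjugate to
the standard element. -/
theorem exists_conj_sigma (g : Cfsg.isometryGroup (ZMod 2) qf) (h3 : g ^ 3 = 1) (h1 : g ≠ 1)
    (S : Set V8) (h4 : S.ncard ≤ 4) (hmem : ∀ c, c + mv g c ∈ S)
    (hna : ∃ u ∈ S, ∃ v ∈ S, pol qf u v = 1) :
    ∃ τ : Cfsg.isometryGroup (ZMod 2) qf, τ * g * τ⁻¹ = Three.σ := by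
  have g3 : ∀ c, mv g (mv g (mv g c)) = c := fun c => by
    rw [← mv_mul, ← mv_mul, show g * g * g = g ^ 3 by simp only [pow_succ, pow_zero, one_mul, mul_assoc],
      h3, mv_one]
  have two := Co1Cent.two_vanish
  obtain ⟨c, hc⟩ : ∃ c, mv g c ≠ c := by
    by_contra hcon
    push Not at hcon
    exact h1 (iso_ext fun c => by rw [hcon, mv_one])
  set p := c + mv g c with hp
  set q := mv g p with hq
  have hp0 : p ≠ 0 := fun e => hc (by
    calc mv g c = (c + c) + mv g c := by rw [two, zero_add]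
      _ = c + p := by rw [hp, add_assoc]
      _ = c := by rw [e, add_zero])
  have hq0 : q ≠ 0 := fun e => hp0 (mv_injective g (e.trans (mv_zero g).symm))
  have hpq : p ≠ q := fun e => hp0 (by
    have e2 : mv g (mv g c) = c := by
      have := congrArg (· + mv g c) e
      simp only [hq, hp, mv_add, add_assoc, two, add_zero] at this
      rw [add_comm (mv g (mv g c)), ← add_assoc, two, zero_add] at this
      exact this.symm
    have e3 := g3 c
    rw [e2] at e3
    exact absurd e3 hc)
  have hpS : p ∈ S := hmem c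
  have hqS : q ∈ S := by rw [hq, hp, mv_add]; exact hmem _
  have hpqS : p + q ∈ S := hmem p
  have h0S : (0 : V8) ∈ S := by have := hmem 0; rwa [mv_zero, add_zero] at this
  have hpq0 : p + q ≠ 0 := fun e => hpq (by
    calc p = p + (q + q) := by rw [two, add_zero]
      _ = q := by rw [← add_assoc, e, zero_add])
  have hS : ∀ x ∈ S, x = 0 ∨ x = p ∨ x = q ∨ x = p + q := by
    intro x hx
    by_contra hcon
    simp only [not_or] at hcon
    have hsub : (↑({x, 0, p, q, p + q} : Finset V8) : Set V8) ⊆ S := by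
      intro y hy
      simp only [Finset.mem_coe, Finset.mem_insert, Finset.mem_singleton] at hy
      rcases hy with e | e | e | e | e <;> rw [e]
      exacts [hx, h0S, hpS, hqS, hpqS]
    have h := Set.ncard_le_ncard hsub (Set.toFinite S)
    rw [Set.ncard_coe_finset] at h
    have h5 : ({x, 0, p, q, p + q} : Finset V8).card = 5 := by
      have n1 : x ∉ ({0, p, q, p + q} : Finset V8) := by
        simp only [Finset.mem_insert, Finset.mem_singleton, not_or]
        exact hcon
      have n2 : (0 : V8) ∉ ({p, q, p + q} : Finset V8) := by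
        simp only [Finset.mem_insert, Finset.mem_singleton, not_or]
        exact ⟨hp0.symm, hq0.symm, hpq0.symm⟩
      have n3 : p ∉ ({q, p + q} : Finset V8) := by
        simp only [Finset.mem_insert, Finset.mem_singleton, not_or]
        exact ⟨hpq, fun e => hq0 (left_eq_add.1 e)⟩
      have n4 : q ∉ ({p + q} : Finset V8) := by
        simp only [Finset.mem_singleton]
        exact fun e => hp0 (right_eq_add.1 e)
      rw [Finset.card_insert_of_notMem n1, Finset.card_insert_of_notMem n2,
        Finset.card_insert_of_notMem n3, Finset.card_insert_of_notMem n4, Finset.card_singleton]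
    omega
  have pz : ∀ x, pol qf 0 x = 0 := fun x => by
    have := Three.pol_add_left 0 0 x
    rw [add_zero] at this
    exact left_eq_add.1 this
  have pz' : ∀ x, pol qf x 0 = 0 := fun x => by rw [pol_comm', pz]
  have hpol : pol qf p q = 1 := by
    obtain ⟨u, hu, v, hv, huv⟩ := hna
    rcases z2 (pol qf p q) with e | e
    · exfalso
      have e' : pol qf q p = 0 := by rw [pol_comm', e]
      rcases hS u hu with rfl | rfl | rfl | rfl <;> rcases hS v hv with rfl | rfl | rfl | rfl <;>
        simp [pz, pz', qf_diag, Three.pol_add_left, pol_right, e, e'] at huv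
    · exact e
  have hgq : mv g q = p + q := by
    have hm : mv g q ∈ S := by rw [hq, hp, mv_add, mv_add]; exact hmem _
    rcases hS _ hm with e | e | e | e
    · exact absurd (mv_injective g (e.trans (mv_zero g).symm)) hq0
    · exfalso
      have h := g3 p
      rw [← hq, e] at h
      exact hpq h.symm
    · exact absurd (mv_injective g e).symm hpq
    · exact e
  have hqq : qf q = qf p := mv_form (f := qf) g p
  have hqp : qf p = 1 := by
    have h := mv_form (f := qf) g q
    rw [hgq, qf_add, hqq, hpol] at h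
    revert h
    generalize qf p = a
    revert a; decide
  have gpp : mv g (p + q) = p := by
    rw [mv_add, hgq, ← hq, ← add_assoc, add_comm q p, add_assoc, two, add_zero]
  have formula : ∀ v, mv g v = v + (pol qf v p + pol qf v q) • p + pol qf v q • q := by
    intro v
    have e1 : ∀ x, pol qf (v + mv g v) (mv g x) = pol qf v (x + mv g x) := fun x => by
      rw [Three.pol_add_left, pol_mv, pol_right]; ring
    have ep := e1 p
    have eq' := e1 q
    rw [← hq] at ep
    rw [hgq, show q + (p + q) = p by rw [← add_assoc, add_comm q p, add_assoc, two, add_zero]] at eq'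
    rw [pol_right v] at ep
    have hv : mv g v = v + (v + mv g v) := by rw [← add_assoc, two, zero_add]
    rw [hv]
    rcases hS _ (hmem v) with e | e | e | e <;> rw [e] at ep eq' ⊢ <;>
      simp [pz, qf_diag, Three.pol_add_left, pol_right, hpol, pol_comm' q p] at ep eq' <;>
      rcases z2 (pol qf v p) with a | a <;> rcases z2 (pol qf v q) with b | b <;>
      simp [a, b, CharTwo.add_self_eq_zero, add_assoc] at ep eq' ⊢
  obtain ⟨τ₁, hτ₁⟩ := move_one p hqp
  obtain ⟨τ₂, hτ₂, hτ₂'⟩ := move_two (mv τ₁ q) ((mv_form (f := qf) τ₁ q).trans (hqq.trans hqp))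
    (by rw [← hτ₁, pol_mv, hpol])
  have hp17 : mv (τ₂ * τ₁) p = Co1Cent.dec 17 := by rw [mv_mul, hτ₁, hτ₂]
  have hq35 : mv (τ₂ * τ₁) q = Co1Cent.dec 35 := by rw [mv_mul, hτ₂']
  refine ⟨τ₂ * τ₁, iso_ext fun v => ?_⟩
  obtain ⟨u, rfl⟩ : ∃ u, mv (τ₂ * τ₁) u = v := ⟨mv (τ₂ * τ₁)⁻¹ v, mv_inv' _ v⟩
  rw [mv_mul, mv_mul, mv_inv, show mv Three.σ (mv (τ₂ * τ₁) u) = Three.M *ᵥ mv (τ₂ * τ₁) u from rfl,
    sigma_formula, formula, mv_add, mv_add, ← hp17, ← hq35, pol_mv, pol_mv]
  have hsmul : ∀ (a : ZMod 2) (x : V8), mv (τ₂ * τ₁) (a • x) = a • mv (τ₂ * τ₁) x := fun a x =>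
    Matrix.mulVec_smul _ a x
  rw [hsmul, hsmul]

end Cfsg.Agent.Lib.SuzThree37.Norm
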