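import Cfsg.Agent.Lib.SuzThree37.Fusion
import Cfsg.Agent.Lib.Co1Local52.Three

/-!
# Conway type: a second element of order three inside the centraliser of the first

Owner: helper37.
-/

set_option autoImplicit false
set_option maxHeartbeats 1000000

namespace Cfsg.Agent.Lib.SuzThree37

open Cfsg Cfsg.Agent.Lib.Co1Local52
open Cfsg.Agent.Lib.Co1Cent (V8 qf)
open scoped Matrix commutatorElement

universe u

/-- The vector of the reflection inverting the second element. -/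
def r34 : V8 := Co1Cent.dec 34

/-- A vector fixed by both elements. -/
def r68 : V8 := Co1Cent.dec 68

theorem refl_test : f8 r34 = 1 ∧ f8 r68 = 1 ∧
    (∀ v : V8, reflFun f8 r34 (reflFun f8 r68 (Three.M *ᵥ v)) =
      Three.M *ᵥ reflFun f8 r34 (reflFun f8 r68 v)) ∧
    ∀ v : V8, reflFun f8 r34 (reflFun f8 r68 (Three.N *ᵥ v)) =
      Three.N *ᵥ (Three.N *ᵥ reflFun f8 r34 (reflFun f8 r68 v)) := by
  decide +kernel

theorem exists_inv : ∃ r ∈ Cfsg.Omega (ZMod 2) f8, Commute r Three.σ ∧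
    r * Three.σ' * r⁻¹ = Three.σ' * Three.σ' := by
  obtain ⟨h1, h2, hM, hN⟩ := refl_test
  obtain ⟨r1, hr1, hr1'⟩ := exists_refl8 _ h1
  obtain ⟨r2, hr2, hr2'⟩ := exists_refl8 _ h2
  refine ⟨r1 * r2, omega8_mul_mem hr1 hr2, iso_ext fun v => ?_, ?_⟩
  · simp only [mv_mul, hr1', hr2']
    exact hM v
  · rw [mul_inv_eq_iff_eq_mul]
    refine iso_ext fun v => ?_
    simp only [mv_mul, hr1', hr2']
    exact hN v

/-- The difference map of the second element on the fixed space. -/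
def dd : ((Fin 2 ⊕ Fin 2) ⊕ Fin 2 → ZMod 2) →+ ((Fin 2 ⊕ Fin 2) ⊕ Fin 2 → ZMod 2) :=
  AddMonoidHom.mk' (fun w => w + Three.P *ᵥ (Three.N *ᵥ (Three.E *ᵥ w))) fun a b => by
    simp only [Matrix.mulVec_add]
    abel

theorem dd_card : (Finset.univ.image fun w => w + Three.P *ᵥ (Three.N *ᵥ (Three.E *ᵥ w))).card ≤ 4 := by
  decide +kernel

theorem dd_pair : ∃ w₁ w₂ : (Fin 2 ⊕ Fin 2) ⊕ Fin 2 → ZMod 2,
    pol f8 (Three.E *ᵥ (w₁ + Three.P *ᵥ (Three.N *ᵥ (Three.E *ᵥ w₁))))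
      (Three.E *ᵥ (w₂ + Three.P *ᵥ (Three.N *ᵥ (Three.E *ᵥ w₂)))) = 1 := by
  refine ⟨decW 2 16, decW 2 32, ?_⟩
  decide +kernel

variable {G : Type u} [Group G] [Finite G] {E : Env G} {a : E.C}

theorem not_dvd_H : ¬ 3 ∣ Nat.card (E.rho.comp (HH a).subtype).ker := by
  intro h
  refine not_dvd E Three.D (h.trans ?_)
  rw [← Subgroup.card_map_of_injective (HH a).subtype_injective]
  refine Subgroup.card_dvd_of_le ?_
  rintro _ ⟨x, hx, rfl⟩
  exact hx

variable (ha : E.rho a = Three.σ) (hap : a ^ 3 = 1)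
include ha hap

theorem exists_lift_HH {g : Cfsg.isometryGroup (ZMod 2) qf} (hg : g ∈ Cfsg.Omega (ZMod 2) qf)
    (hc : Commute g Three.σ) : ∃ h : HH a, E.rho (h : E.C) = g := by
  obtain ⟨b, rfl⟩ := E.exists_lift hg
  obtain ⟨q, hq, hqa⟩ := exists_conj_ker Nat.prime_three E.rho (not_dvd E Three.D) hap
    (show (b * a * b⁻¹) ^ 3 = 1 by rw [conj_pow, hap, mul_one, mul_inv_cancel])
    (by rw [map_mul, map_mul, map_inv, ha, hc.eq, mul_inv_cancel_right])
    (by rw [ha]; exact Three.D.ne_one)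
  refine ⟨⟨q⁻¹ * b, Subgroup.mem_centralizer_singleton_iff.2 ?_⟩, ?_⟩
  · calc q⁻¹ * b * a = q⁻¹ * (b * a * b⁻¹) * b := by group
      _ = q⁻¹ * (q * a * q⁻¹) * b := by rw [hqa]
      _ = a * (q⁻¹ * b) := by group
  · show E.rho (q⁻¹ * b) = _
    rw [map_mul, map_inv, MonoidHom.mem_ker.1 hq, inv_one, one_mul]

/-- The second element with an inverting and a moving element. -/
theorem exists_second : ∃ u h : HH a, E.rho (u : E.C) = Three.σ' ∧ u ^ 3 = 1 ∧ h * u * h⁻¹ = u⁻¹ ∧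
    ∃ t : E.C, t * (u : E.C) * t⁻¹ = a := by
  obtain ⟨v, hv⟩ := exists_lift_HH ha hap Three.σ'_mem Three.σ_comm.symm
  set u := v ^ 4096 with hu
  have hu' : E.rho (u : E.C) = Three.σ' := by
    rw [hu, SubgroupClass.coe_pow, map_pow, hv, pow_4096 Three.D Three.σ'_pow]
  have hu3 : u ^ 3 = 1 := by
    refine Subtype.ext ?_
    rw [hu, ← pow_mul, mul_comm, pow_mul, SubgroupClass.coe_pow, OneMemClass.coe_one]
    exact pow_big (E.mem_of_rho (by rw [SubgroupClass.coe_pow, map_pow, hv, Three.σ'_pow]))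
  obtain ⟨r, hr, hrc, hrσ⟩ := exists_inv
  obtain ⟨h, rfl⟩ := exists_lift_HH ha hap hr hrc
  have hu1 : E.rho (u : E.C) ≠ 1 := by rw [hu']; exact Three.σ'_ne
  obtain ⟨q, -, hq⟩ := exists_conj_ker Nat.prime_three (E.rho.comp (HH a).subtype) not_dvd_H
    (show (h * u * h⁻¹) ^ 3 = 1 by rw [conj_pow, hu3, mul_one, mul_inv_cancel])
    (show (u * u) ^ 3 = 1 by rw [← pow_two, ← pow_mul, mul_comm, pow_mul, hu3, one_pow])
    (by
      show E.rho ((h * u * h⁻¹ : HH a) : E.C) = E.rho ((u * u : HH a) : E.C)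
      simp only [Subgroup.coe_mul, InvMemClass.coe_inv, map_mul, map_inv, hu']
      exact hrσ)
    (by
      show E.rho ((h * u * h⁻¹ : HH a) : E.C) ≠ 1
      simp only [Subgroup.coe_mul, InvMemClass.coe_inv, map_mul, map_inv]
      exact fun e => hu1 (conj_eq_one_iff.1 e))
  refine ⟨u, q * h, hu', hu3, ?_, ?_⟩
  · refine (?_ : _ = u * u).trans (eq_inv_of_mul_eq_one_left ?_)
    · rw [← hq]; group
    · rw [mul_assoc, ← pow_two, ← pow_succ', hu3]
  · obtain ⟨τ', hτ', hτ⟩ := Three.D.conj_omega (show Three.sw * Three.σ' * Three.sw⁻¹ = Three.D.σ from Three.sw_conj)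
    obtain ⟨g, rfl⟩ := E.exists_lift hτ'
    obtain ⟨q', -, hq'⟩ := exists_conj_ker Nat.prime_three E.rho (not_dvd E Three.D)
      (show (g * (u : E.C) * g⁻¹) ^ 3 = 1 by
        rw [conj_pow, ← SubgroupClass.coe_pow, hu3, OneMemClass.coe_one, mul_one, mul_inv_cancel]) hap
      (by rw [map_mul, map_mul, map_inv, hu', hτ, ha]; rfl)
      (by rw [map_mul, map_mul, map_inv]; exact fun e => hu1 (conj_eq_one_iff.1 e))
    exact ⟨q' * g, Eq.trans (by group) hq'⟩

end Cfsg.Agent.Lib.SuzThree37
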