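import Cfsg.Agent.Lib.SuzThree37.Swap
import Cfsg.Agent.Lib.Co1Local52.Setup

/-!
# Conway type: a lifted element and its centraliser

An abstract version of `Lib/Co1Local52` (helper52).

Owner: helper37.
-/

set_option autoImplicit false
set_option maxHeartbeats 1000000

namespace Cfsg.Agent.Lib.SuzThree37

open Cfsg Cfsg.Agent.Lib.Co1Local52
open Cfsg.Agent.Lib.Co1Cent (V8 qf)
open scoped Matrix commutatorElement

universe u

variable {G : Type u} [Group G] [Finite G] {E : Env G}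

theorem pow_big {x : E.C} (hx : x ∈ E.Q) : x ^ 4096 = 1 := by
  have h : (x * x) * (x * x) = 1 := by
    rw [E.sq_co hx]; split_ifs
    · exact one_mul 1
    · exact E.zq_sq
  rw [show 4096 = 4 * 1024 from rfl, pow_mul, show x ^ 4 = (x * x) * (x * x) by simp only [pow_succ, pow_zero, one_mul, mul_assoc], h, one_pow]

variable {p m : ℕ} (D : Datum p m)

theorem eq_one_of_mem (D : Datum p m) {x : E.C} (hx : x ∈ E.Q) (h : x ^ p = 1) : x = 1 :=
  (pow_4096 D h).symm.trans (pow_big hx)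

theorem E.rho_of_mem {x : E.C} (hx : x ∈ E.Q) : E.rho x = 1 :=
  MonoidHom.mem_ker.1 (by rw [E.ker_rho]; exact hx)

theorem E.mem_of_rho {x : E.C} (hx : E.rho x = 1) : x ∈ E.Q := by
  rw [← E.ker_rho]
  exact hx

theorem exists_lift_σ (E : Env G) : ∃ a : E.C, E.rho a = D.σ ∧ a ^ p = 1 := by
  obtain ⟨b, hb⟩ := E.exists_lift D.σ_mem_omega
  refine ⟨b ^ 4096, by rw [map_pow, hb, pow_4096 D D.pow_eq], ?_⟩
  rw [← pow_mul, mul_comm, pow_mul]
  exact pow_big (E.mem_of_rho (by rw [map_pow, hb, D.pow_eq]))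

theorem not_dvd (E : Env G) (D : Datum p m) : ¬ p ∣ Nat.card E.rho.ker := by
  rw [E.ker_rho]
  intro h
  have := Fact.mk D.prime
  obtain ⟨x, hx⟩ := exists_prime_orderOf_dvd_card' (G := E.Q) p h
  have h1 : x = 1 := Subtype.ext (eq_one_of_mem D x.2
    (congrArg Subtype.val (hx ▸ pow_orderOf_eq_one x : x ^ p = 1)))
  rw [h1, orderOf_one] at hx
  exact D.prime.one_lt.ne hx

variable {a : E.C} (ha : E.rho a = D.σ) (hap : a ^ p = 1)

include ha hap in
theorem orderOf_a : orderOf a = p :=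
  orderOf_prime' D.prime hap fun h => D.ne_one (by rw [← ha, h, map_one])

include hap in
theorem zpowers_mem_Q1 (D : Datum p m) {g : E.C} (hg : g ∈ Subgroup.zpowers a) (hQ : g ∈ E.Q) : g = 1 := by
  refine eq_one_of_mem D hQ ?_
  obtain ⟨i, rfl⟩ := Subgroup.mem_zpowers_iff.1 hg
  rw [← zpow_natCast, ← zpow_mul, mul_comm, zpow_mul, zpow_natCast, hap, one_zpow]

/-- The centraliser inside the involution centraliser. -/
noncomputable abbrev HH (a : E.C) : Subgroup E.C := Subgroup.centralizer {a}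

theorem commute_HH (h : HH a) : Commute (h : E.C) a := Subgroup.mem_centralizer_singleton_iff.1 h.2

/-- The coordinates on the fixed space. -/
noncomputable def wc (x : E.C) : (Fin m ⊕ Fin m) ⊕ Fin 2 → ZMod 2 := D.prj *ᵥ E.co x

theorem wc_mul {x y : E.C} (hx : x ∈ E.Q) (hy : y ∈ E.Q) : wc D (x * y) = wc D x + wc D y := by
  rw [wc, E.comul hx hy, Matrix.mulVec_add]
  rfl

include ha in
theorem emb_wc {x : E.C} (hx : x ∈ E.Q) (hxa : x ∈ HH a) : D.emb *ᵥ wc D x = E.co x := by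
  refine D.fixed _ ?_
  rw [← ha, E.mv_co a hx, ← (commute_HH ⟨x, hxa⟩).eq, mul_inv_cancel_right]

include ha hap in
theorem mem_HH_of {x : E.C} (hx : x ∈ E.Q) {w : (Fin m ⊕ Fin m) ⊕ Fin 2 → ZMod 2}
    (hw : E.co x = D.emb *ᵥ w) : x ∈ HH a := by
  have h1 : E.co (a * x * a⁻¹) = E.co x := by
    rw [← E.mv_co a hx, ha, hw, D.fix_emb]
  rcases E.eq_or_of_co_eq hx (E.conj_mem_Q a hx) h1.symm with e | e
  · exact Subgroup.mem_centralizer_singleton_iff.2 (mul_inv_eq_iff_eq_mul.1 e).symm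
  exfalso
  have key : ∀ n : ℕ, a ^ n * x * (a ^ n)⁻¹ = x * E.zq ^ n := by
    intro n
    induction n with
    | zero => simp
    | succ n ih =>
      rw [pow_succ, pow_succ', mul_inv_rev]
      calc a ^ n * a * x * (a⁻¹ * (a ^ n)⁻¹) = a ^ n * (a * x * a⁻¹) * (a ^ n)⁻¹ := by group
        _ = (a ^ n * x * (a ^ n)⁻¹) * (a ^ n * E.zq * (a ^ n)⁻¹) := by rw [e]; group
        _ = x * E.zq ^ n * E.zq := by rw [ih, E.zq_comm, mul_inv_cancel_right]
        _ = x * (E.zq * E.zq ^ n) := by rw [mul_assoc, ← pow_succ, ← pow_succ']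
  have h := key p
  rw [hap, one_mul, inv_one, mul_one] at h
  obtain ⟨k, hk⟩ := D.odd
  rw [hk, pow_succ, pow_mul, pow_two, E.zq_sq, one_pow, one_mul] at h
  exact E.zq_ne_one (left_eq_mul.1 h)

include ha hap in
theorem exists_wc (w : (Fin m ⊕ Fin m) ⊕ Fin 2 → ZMod 2) :
    ∃ x ∈ E.Q, x ∈ HH a ∧ wc D x = w := by
  obtain ⟨x, hx, hxc⟩ := E.co_surj (D.emb *ᵥ w)
  exact ⟨x, hx, mem_HH_of D ha hap hx hxc, by rw [wc, hxc, D.prj_emb]⟩

include ha in
theorem wc_eq_zero {x : E.C} (hx : x ∈ E.Q) (hxa : x ∈ HH a) (h : wc D x = 0) : x = 1 ∨ x = E.zq :=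
  E.co_eq_zero hx (by rw [← emb_wc D ha hx hxa, h, Matrix.mulVec_zero])

/-- The action as elements of the centraliser of the element of the orthogonal group. -/
noncomputable def toCO (ha : E.rho a = D.σ) : HH a →* D.CO :=
  (E.rho.comp (HH a).subtype).codRestrict _ fun h => Subgroup.mem_centralizer_singleton_iff.2 (by
    show E.rho h * D.σ = D.σ * E.rho h
    rw [← ha, ← map_mul, ← map_mul, (commute_HH h).eq])

/-- The action on the fixed space. -/
noncomputable def th (ha : E.rho a = D.σ) (hi : (Cfsg.Omega (ZMod 2) (fW m)).index = 2) :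
    HH a →* Cfsg.Omega (ZMod 2) (fW m) :=
  (D.res.comp (toCO D ha)).codRestrict _ fun h =>
    D.res_mem_omega hi _ (by rw [← E.range_rho]; exact ⟨(h : E.C), rfl⟩)

variable (hi : (Cfsg.Omega (ZMod 2) (fW m)).index = 2)

theorem toCO_coe (h : HH a) :
    ((toCO D ha h : D.CO) : Cfsg.isometryGroup (ZMod 2) f8) = E.rho (h : E.C) := rfl

theorem th_coe (h : HH a) :
    ((th D ha hi h : Cfsg.Omega (ZMod 2) (fW m)) : Cfsg.isometryGroup (ZMod 2) (fW m)) =
      D.res (toCO D ha h) := rfl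

theorem wc_conj (h : HH a) {q : E.C} (hq : q ∈ E.Q) (hqa : q ∈ HH a) :
    wc D ((h : E.C) * q * (h : E.C)⁻¹) =
      mv (th D ha hi h : Cfsg.isometryGroup (ZMod 2) (fW m)) (wc D q) := by
  have hh : (h : E.C) * q * (h : E.C)⁻¹ ∈ HH a := mul_mem (mul_mem h.2 hqa) (inv_mem h.2)
  refine D.emb_injective ?_
  show D.emb *ᵥ wc D _ = D.emb *ᵥ _
  rw [emb_wc D ha (E.conj_mem_Q _ hq) hh,
    show (th D ha hi h : Cfsg.isometryGroup (ZMod 2) (fW m)) = D.res (toCO D ha h) from rfl,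
    D.emb_res, emb_wc D ha hq hqa]
  exact (E.mv_co _ hq).symm

theorem th_eq_one {h : HH a} (hh : th D ha hi h = 1) :
    ∃ q ∈ E.Q, q ∈ HH a ∧ ∃ i : ℤ, (h : E.C) = q * a ^ i := by
  have h1 : D.res (toCO D ha h) = 1 := by
    rw [← th_coe D ha hi h, hh]
    rfl
  have h2 : (E.rho (h : E.C)) ∈ Subgroup.zpowers D.σ := by
    rw [← toCO_coe D ha h]
    exact D.mem_zpowers_of_res _ h1
  obtain ⟨i, hi'⟩ := Subgroup.mem_zpowers_iff.1 h2
  refine ⟨(h : E.C) * (a ^ i)⁻¹, E.mem_of_rho ?_, ?_, i, (inv_mul_cancel_right _ _).symm⟩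
  · rw [map_mul, map_inv, map_zpow, ha, hi']
    exact mul_inv_cancel _
  · exact mul_mem h.2 (inv_mem (zpow_mem (Subgroup.mem_centralizer_singleton_iff.2 rfl) i))

theorem th_of_mem {h : HH a} (hq : (h : E.C) ∈ E.Q) : th D ha hi h = 1 := by
  refine Subtype.ext ?_
  show D.res (toCO D ha h) = 1
  have : toCO D ha h = 1 := Subtype.ext (E.rho_of_mem hq)
  rw [this, map_one]

theorem th_gen {h : HH a} (hh : (h : E.C) ∈ Subgroup.zpowers a) : th D ha hi h = 1 := by
  obtain ⟨i, hi'⟩ := Subgroup.mem_zpowers_iff.1 hh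
  refine Subtype.ext (iso_ext fun w => ?_)
  show mv (D.res (toCO D ha h)) w = mv 1 w
  rw [mv_one]
  refine D.emb_injective ?_
  show D.emb *ᵥ _ = D.emb *ᵥ w
  rw [D.emb_res, show ((toCO D ha h : D.CO) : Cfsg.isometryGroup (ZMod 2) f8) = E.rho (h : E.C) from rfl,
    ← hi', map_zpow, ha]
  have hfix : ∀ g : Cfsg.isometryGroup (ZMod 2) f8, g ∈ Subgroup.zpowers D.σ →
      mv g (D.emb *ᵥ w) = D.emb *ᵥ w := by
    intro g hg
    let S : Subgroup (Cfsg.isometryGroup (ZMod 2) f8) :=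
      { carrier := {g | mv g (D.emb *ᵥ w) = D.emb *ᵥ w}
        one_mem' := mv_one _
        mul_mem' := fun {x y} hx hy => by
          show mv (x * y) _ = _
          rw [mv_mul, hy, hx]
        inv_mem' := fun {x} hx => by
          show mv x⁻¹ _ = _
          conv_lhs => rw [← hx]
          exact mv_inv x _ }
    exact (Subgroup.zpowers_le.2 (show D.σ ∈ S from D.fix_emb w)) hg
  exact hfix _ (Subgroup.mem_zpowers_iff.2 ⟨i, rfl⟩)

include hap in
theorem th_surjective : Function.Surjective (th D ha hi) := by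
  rintro ⟨w, hw⟩
  obtain ⟨g, hg⟩ := E.exists_lift (D.ext_mem_omega hw)
  have hgσ : E.rho (g * a * g⁻¹) = E.rho a := by
    rw [map_mul, map_mul, map_inv, hg, ha, (D.ext_comm w).eq, mul_inv_cancel_right]
  obtain ⟨q, hq, hqa⟩ := exists_conj_ker D.prime E.rho (not_dvd E D) hap
    (show (g * a * g⁻¹) ^ p = 1 by rw [conj_pow, hap, mul_one, mul_inv_cancel]) hgσ.symm
    (by rw [ha]; exact D.ne_one)
  have hh : q⁻¹ * g ∈ HH a := Subgroup.mem_centralizer_singleton_iff.2 (by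
    calc q⁻¹ * g * a = q⁻¹ * (g * a * g⁻¹) * g := by group
      _ = q⁻¹ * (q * a * q⁻¹) * g := by rw [hqa]
      _ = a * (q⁻¹ * g) := by group)
  refine ⟨⟨_, hh⟩, Subtype.ext ?_⟩
  show D.res (toCO D ha ⟨_, hh⟩) = w
  have : toCO D ha ⟨_, hh⟩ = D.extC w := Subtype.ext (by
    show E.rho (q⁻¹ * g) = D.ext w
    rw [map_mul, map_inv, MonoidHom.mem_ker.1 hq, inv_one, one_mul, hg])
  rw [this, D.res_extC]


end Cfsg.Agent.Lib.SuzThree37
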