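import Cfsg.Agent.Lib.SuzThree37.Setup
import Cfsg.Agent.Lib.Co1Local52.Struct

/-!
# Conway type: the quotient of the centraliser

An abstract version of `Lib/Co1Local52` (helper52).

Owner: helper37.
-/

set_option autoImplicit false
set_option maxHeartbeats 1000000

namespace Cfsg.Agent.Lib.SuzThree37

open Cfsg Cfsg.Agent.Lib.Co1Local52
open Cfsg.Agent.Lib.Co1Cent (V8 qf)
open scoped Matrix commutatorElement

universe u

variable {G : Type u} [Group G] [Finite G] {E : Env G}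

/-- All the data. -/
structure Ctx (E : Env G) (p m : ℕ) where
  D : Datum p m
  a : E.C
  ha : E.rho a = D.σ
  hap : a ^ p = 1
  hm : 1 ≤ m
  hi : (Cfsg.Omega (ZMod 2) (fW m)).index = 2
  hs : IsSimpleGroup (Cfsg.Omega (ZMod 2) (fW m))
  nonab : ∃ u v : Cfsg.Omega (ZMod 2) (fW m), u * v ≠ v * u
  irr : ∀ M : AddSubgroup ((Fin m ⊕ Fin m) ⊕ Fin 2 → ZMod 2),
    (∀ g ∈ Cfsg.Omega (ZMod 2) (fW m), ∀ w ∈ M, mv g w ∈ M) → (∃ w ∈ M, w ≠ 0) → M = ⊤
  W : Swap E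
  hw : ∃ w, D.emb *ᵥ w = w0
  fusion : ∀ g ∈ Cfsg.Omega (ZMod 2) qf, g ^ p = 1 → g ≠ 1 → mv g w0 = w0 → RadPart m g →
    ∃ τ : Cfsg.isometryGroup (ZMod 2) qf, τ * g * τ⁻¹ = D.σ

attribute [local irreducible] wc

namespace Ctx

variable {p m : ℕ} (X : Ctx E p m)

/-- The centraliser of the element. -/
noncomputable abbrev AA : Subgroup G := Subgroup.centralizer {(X.a : G)}

/-- The group. -/
noncomputable abbrev SS : Type u :=
  X.AA ⧸ (Subgroup.zpowers (X.a : G)).subgroupOf X.AA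

/-- The inclusion of centralisers. -/
noncomputable def toA : HH X.a →* X.AA :=
  (E.C.subtype.comp (HH X.a).subtype).codRestrict _ fun h =>
    Subgroup.mem_centralizer_singleton_iff.2 (congrArg Subtype.val (commute_HH h).eq)

/-- The map to the quotient. -/
noncomputable def pS : HH X.a →* X.SS := (QuotientGroup.mk' _).comp X.toA

theorem pS_eq_one {h : HH X.a} : X.pS h = 1 ↔ (h : E.C) ∈ Subgroup.zpowers X.a := by
  show (QuotientGroup.mk (X.toA h) : X.SS) = 1 ↔ _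
  rw [QuotientGroup.eq_one_iff, Subgroup.mem_subgroupOf, Subgroup.mem_zpowers_iff,
    Subgroup.mem_zpowers_iff]
  refine exists_congr fun i => ?_
  rw [← SubgroupClass.coe_zpow]
  exact Subtype.coe_inj

theorem pS_inj {q r : HH X.a} (hq : (q : E.C) ∈ E.Q) (hr : (r : E.C) ∈ E.Q) (h : X.pS q = X.pS r) :
    q = r := by
  have h1 : ((q * r⁻¹ : HH X.a) : E.C) ∈ Subgroup.zpowers X.a :=
    X.pS_eq_one.1 (by rw [map_mul, map_inv, h, mul_inv_cancel])
  have h2 := zpowers_mem_Q1 X.hap X.D h1 (mul_mem hq (inv_mem hr))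
  exact mul_inv_eq_one.1 (Subtype.ext h2)

/-- The involution as an element of the centraliser. -/
noncomputable def zh : HH X.a :=
  ⟨E.zq, Subgroup.mem_centralizer_singleton_iff.2 (E.zq_comm X.a).symm⟩

/-- The involution of the quotient. -/
noncomputable def zS : X.SS := X.pS X.zh

theorem zS_ne_one : X.zS ≠ 1 := fun h =>
  E.zq_ne_one (congrArg Subtype.val
    (X.pS_inj (q := X.zh) (r := 1) E.zq_mem (one_mem _) (h.trans (map_one _).symm)))

theorem zS_sq : X.zS * X.zS = 1 := by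
  rw [zS, ← map_mul, show X.zh * X.zh = 1 from Subtype.ext E.zq_sq, map_one]

theorem orderOf_zS : orderOf X.zS = 2 :=
  orderOf_eq_prime (by rw [pow_two]; exact X.zS_sq) X.zS_ne_one

theorem commute_pS (h : HH X.a) : Commute (X.pS h) X.zS :=
  ((show Commute h X.zh from Subtype.ext (E.zq_comm (h : E.C))).map X.pS)

theorem exists_pS {c : X.SS} (hc : Commute c X.zS) : ∃ h : HH X.a, X.pS h = c := by
  obtain ⟨g, rfl⟩ := QuotientGroup.mk_surjective c
  have h1 : (QuotientGroup.mk (g * X.toA X.zh * g⁻¹ * (X.toA X.zh)⁻¹) : X.SS) = 1 := by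
    show (QuotientGroup.mk g : X.SS) * X.zS * (QuotientGroup.mk g)⁻¹ * X.zS⁻¹ = 1
    rw [hc.eq, mul_inv_cancel_right, mul_inv_cancel]
  rw [QuotientGroup.eq_one_iff, Subgroup.mem_subgroupOf, Subgroup.mem_zpowers_iff] at h1
  obtain ⟨i, hi⟩ := h1
  have hz : E.z * E.z = 1 := congrArg Subtype.val E.zq_sq
  have hi' : (X.a : G) ^ i = (g : G) * E.z * (g : G)⁻¹ * E.z⁻¹ := hi
  have hza : Commute ((X.a : G) ^ i) E.z :=
    (show Commute (X.a : G) E.z from congrArg Subtype.val (E.zq_comm X.a)).zpow_left i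
  have hgz : (g : G) * E.z * (g : G)⁻¹ = (X.a : G) ^ i * E.z := by
    rw [hi', inv_mul_cancel_right]
  have h2 : ((X.a : G) ^ i * E.z) * ((X.a : G) ^ i * E.z) = 1 := by
    rw [← hgz, conj_mul, hz, mul_one, mul_inv_cancel]
  rw [mul_assoc, ← mul_assoc E.z, ← hza.eq, mul_assoc, hz, mul_one] at h2
  have hone : X.a ^ i = 1 := by
    refine eq_one_of_sq X.D ?_ ?_
    · refine Subtype.ext ?_
      rw [Subgroup.coe_mul, SubgroupClass.coe_zpow]
      exact h2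
    · rw [← zpow_natCast, ← zpow_mul, mul_comm, zpow_mul, zpow_natCast, X.hap, one_zpow]
  rw [← SubgroupClass.coe_zpow, hone, OneMemClass.coe_one, one_mul] at hgz
  have hgC : (g : G) ∈ E.C :=
    Subgroup.mem_centralizer_singleton_iff.2 (mul_inv_eq_iff_eq_mul.1 hgz)
  refine ⟨⟨⟨g, hgC⟩, Subgroup.mem_centralizer_singleton_iff.2 (Subtype.ext ?_)⟩, rfl⟩
  exact Subgroup.mem_centralizer_singleton_iff.1 g.2

/-- The extraspecial subgroup of the quotient. -/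
noncomputable def QS : Subgroup X.SS := (E.Q.subgroupOf (HH X.a)).map X.pS

theorem mem_QS {c : X.SS} : c ∈ X.QS ↔ ∃ q : HH X.a, (q : E.C) ∈ E.Q ∧ X.pS q = c := by
  rw [QS, Subgroup.mem_map]
  rfl

/-- The action on the fixed space. -/
noncomputable def tho : HH X.a →* Cfsg.Omega (ZMod 2) (fW m) := th X.D X.ha X.hi

theorem pS_mem_QS {h : HH X.a} (hh : X.tho h = 1) : X.pS h ∈ X.QS := by
  obtain ⟨q, hq, hqa, i, hqi⟩ := th_eq_one X.D X.ha X.hi hh
  refine X.mem_QS.2 ⟨⟨q, hqa⟩, hq, ?_⟩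
  refine (inv_mul_eq_one.1 ?_)
  rw [← map_inv, ← map_mul, pS_eq_one]
  show q⁻¹ * (h : E.C) ∈ _
  rw [hqi, inv_mul_cancel_left]
  exact zpow_mem (Subgroup.mem_zpowers _) i

include X in
theorem exists_wc_pol (w : (Fin m ⊕ Fin m) ⊕ Fin 2 → ZMod 2) (hw : w ≠ 0) :
    ∃ u, pol (fW m) w u = 1 := by
  have h : X.D.emb *ᵥ w ≠ 0 := fun e => hw (X.D.emb_injective (by
    show X.D.emb *ᵥ w = X.D.emb *ᵥ 0
    rw [e, Matrix.mulVec_zero]))
  obtain ⟨d, hd⟩ := exists_pol8 _ h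
  exact ⟨X.D.prj *ᵥ d, (X.D.pol_emb w d).symm.trans hd⟩

theorem exists_noncomm_QS {q : HH X.a} (hq : (q : E.C) ∈ E.Q) (h1 : (q : E.C) ≠ 1)
    (h2 : (q : E.C) ≠ E.zq) :
    ∃ r : HH X.a, (r : E.C) ∈ E.Q ∧ r * q * r⁻¹ = q * X.zh := by
  have hw : wc X.D (q : E.C) ≠ 0 := fun e =>
    (wc_eq_zero X.D X.ha hq q.2 e).elim h1 h2
  obtain ⟨u, hu⟩ := X.exists_wc_pol _ hw
  obtain ⟨r, hr, hra, hru⟩ := exists_wc X.D X.ha X.hap u
  refine ⟨⟨r, hra⟩, hr, Subtype.ext ?_⟩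
  show r * (q : E.C) * r⁻¹ = (q : E.C) * E.zq
  rcases E.comm_or hq hr with e | e
  · exfalso
    rw [E.comm_iff hq hr, ← emb_wc X.D X.ha hq q.2, ← emb_wc X.D X.ha hr hra, X.D.pol_emb,
      X.D.prj_emb, hru, hu] at e
    exact one_ne_zero e
  · rw [e, ← mul_assoc, mul_inv_cancel_right, E.zq_comm]

theorem cases_QS (q r : HH X.a) (hq : (q : E.C) ∈ E.Q) (hr : (r : E.C) ∈ E.Q) :
    r * q * r⁻¹ = q ∨ r * q * r⁻¹ = q * X.zh := by
  rcases E.comm_or hq hr with e | e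
  · exact Or.inl (Subtype.ext (mul_inv_eq_iff_eq_mul.2 e))
  · refine Or.inr (Subtype.ext ?_)
    show (r : E.C) * q * (r : E.C)⁻¹ = (q : E.C) * E.zq
    rw [e, ← mul_assoc, mul_inv_cancel_right, E.zq_comm]

theorem card_CQ : Nat.card (E.Q.subgroupOf (HH X.a)) = 2 ^ (2 * m + 3) := by
  let f : E.Q.subgroupOf (HH X.a) →* Multiplicative ((Fin m ⊕ Fin m) ⊕ Fin 2 → ZMod 2) :=
    { toFun := fun q => Multiplicative.ofAdd (wc X.D ((q : HH X.a) : E.C))
      map_one' := by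
        show Multiplicative.ofAdd (wc X.D 1) = 1
        rw [wc, E.co_one, Matrix.mulVec_zero]
        rfl
      map_mul' := fun q r => by
        show Multiplicative.ofAdd (wc X.D (((q : HH X.a) : E.C) * ((r : HH X.a) : E.C))) = _
        rw [wc_mul X.D (show ((q : HH X.a) : E.C) ∈ E.Q from q.2)
          (show ((r : HH X.a) : E.C) ∈ E.Q from r.2)]
        rfl }
  have hs : Function.Surjective f := fun w => by
    obtain ⟨x, hx, hxa, hxw⟩ := exists_wc X.D X.ha X.hap (Multiplicative.toAdd w)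
    exact ⟨⟨⟨x, hxa⟩, hx⟩, congrArg Multiplicative.ofAdd hxw⟩
  have hk : Nat.card f.ker = 2 := by
    have h : (f.ker : Set (E.Q.subgroupOf (HH X.a))) = {1, ⟨X.zh, E.zq_mem⟩} := by
      ext q
      simp only [SetLike.mem_coe, MonoidHom.mem_ker, Set.mem_insert_iff, Set.mem_singleton_iff]
      constructor
      · intro hq
        have hq' : wc X.D ((q : HH X.a) : E.C) = 0 := Multiplicative.ofAdd.injective hq
        rcases wc_eq_zero X.D X.ha q.2 (q : HH X.a).2 hq' with e | e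
        · exact Or.inl (Subtype.ext (Subtype.ext e))
        · exact Or.inr (Subtype.ext (Subtype.ext e))
      · rintro (rfl | rfl)
        · exact map_one f
        · show Multiplicative.ofAdd (wc X.D E.zq) = 1
          rw [wc, E.co_zq, Matrix.mulVec_zero]
          rfl
    rw [← SetLike.coe_sort_coe, h, Nat.card_coe_set_eq, Set.ncard_pair]
    exact fun e => E.zq_ne_one (congrArg (fun y : E.Q.subgroupOf (HH X.a) => ((y : HH X.a) : E.C)) e).symm
  have h := Subgroup.card_mul_index f.ker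
  rw [Subgroup.index_ker, MonoidHom.range_eq_top.2 hs, Subgroup.card_top, hk,
    Nat.card_congr Multiplicative.toAdd] at h
  rw [← h]
  simp only [Nat.card_eq_fintype_card, Fintype.card_fun, ZMod.card, Fintype.card_sum,
    Fintype.card_fin]
  rw [← pow_succ']
  congr 1
  omega

/-- The isomorphism with the preimage. -/
noncomputable def isoQS : E.Q.subgroupOf (HH X.a) ≃* X.QS :=
  MulEquiv.ofBijective ((X.pS.comp (E.Q.subgroupOf (HH X.a)).subtype).codRestrict X.QS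
      fun q => Subgroup.mem_map_of_mem _ q.2)
    ⟨fun q r h => Subtype.ext (X.pS_inj q.2 r.2 (congrArg Subtype.val h)), fun c => by
      obtain ⟨q, hq, e⟩ := X.mem_QS.1 c.2
      exact ⟨⟨q, hq⟩, Subtype.ext e⟩⟩

theorem card_QS : Nat.card X.QS = 2 ^ (2 * m + 3) := by
  rw [← Nat.card_congr X.isoQS.toEquiv, card_CQ]

theorem isPGroup_CQ : IsPGroup 2 (E.Q.subgroupOf (HH X.a)) := IsPGroup.of_card X.card_CQ

theorem extraspecial_CQ : IsExtraspecial 2 (E.Q.subgroupOf (HH X.a)) := by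
  have : Finite E.C := inferInstance
  refine extraspecial_of X.isPGroup_CQ ⟨X.zh, E.zq_mem⟩
    (fun e => E.zq_ne_one (congrArg (fun y : E.Q.subgroupOf (HH X.a) => ((y : HH X.a) : E.C)) e))
    (fun g => Subtype.ext (Subtype.ext (E.zq_comm _))) (fun g => ?_) (fun g h => ?_) (fun g h1 h2 => ?_) ?_
  · rcases (show ((g : HH X.a) : E.C) * (g : HH X.a) = 1 ∨ ((g : HH X.a) : E.C) * (g : HH X.a) = E.zq by
      rw [E.sq_co (show ((g : HH X.a) : E.C) ∈ E.Q from g.2)]; split_ifs <;> simp) with e | e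
    · exact Or.inl (Subtype.ext (Subtype.ext e))
    · exact Or.inr (Subtype.ext (Subtype.ext e))
  · rcases X.cases_QS g h g.2 h.2 with e | e
    · exact Or.inl (Subtype.ext e)
    · exact Or.inr (Subtype.ext e)
  · obtain ⟨r, hr, e⟩ := X.exists_noncomm_QS g.2 (fun e => h1 (Subtype.ext (Subtype.ext e)))
      (fun e => h2 (Subtype.ext (Subtype.ext e)))
    exact ⟨⟨r, hr⟩, Subtype.ext e⟩
  · obtain ⟨w, hw⟩ := X.hw
    have hw0 : w ≠ 0 := by
      rintro rfl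
      rw [Matrix.mulVec_zero] at hw
      exact w0_good.1 hw.symm
    obtain ⟨x, hx, hxa, hxw⟩ := exists_wc X.D X.ha X.hap w
    have hne1 : x ≠ 1 := fun e => hw0 (by
      rw [← hxw, e, wc, E.co_one, Matrix.mulVec_zero])
    have hne2 : x ≠ E.zq := fun e => hw0 (by
      rw [← hxw, e, wc, E.co_zq, Matrix.mulVec_zero])
    let q0 : E.Q.subgroupOf (HH X.a) := ⟨⟨x, hxa⟩, hx⟩
    refine ⟨q0, ?_, ?_⟩
    · intro e
      exact hne1 (congrArg Subtype.val (congrArg Subtype.val e))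
    · intro e
      exact hne2 (congrArg Subtype.val (congrArg Subtype.val e))

theorem big_norm : ∀ c : X.SS, Commute c X.zS → ∀ q ∈ X.QS, c * q * c⁻¹ ∈ X.QS := by
  intro c hc q hq
  obtain ⟨h, rfl⟩ := X.exists_pS hc
  obtain ⟨r, hr, rfl⟩ := X.mem_QS.1 hq
  refine X.mem_QS.2 ⟨h * r * h⁻¹, E.conj_mem_Q _ hr, by rw [map_mul, map_mul, map_inv]⟩

theorem big_cases : ∀ q ∈ X.QS, ∀ r ∈ X.QS, r * q * r⁻¹ = q ∨ r * q * r⁻¹ = q * X.zS := by
  intro q hq r hr
  obtain ⟨q', hq', rfl⟩ := X.mem_QS.1 hq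
  obtain ⟨r', hr', rfl⟩ := X.mem_QS.1 hr
  rw [zS, ← map_mul, ← map_inv, ← map_mul, ← map_mul]
  exact (X.cases_QS q' r' hq' hr').imp (congrArg X.pS) (congrArg X.pS)

theorem big_noncentral : ∀ q ∈ X.QS, q ≠ 1 → q ≠ X.zS → ∃ r ∈ X.QS, r * q * r⁻¹ = q * X.zS := by
  intro q hq h1 h2
  obtain ⟨q', hq', rfl⟩ := X.mem_QS.1 hq
  obtain ⟨r, hr, e⟩ := X.exists_noncomm_QS hq'
    (fun e => h1 (by rw [show q' = 1 from Subtype.ext e, map_one]))
    (fun e => h2 (by rw [show q' = X.zh from Subtype.ext e]; rfl))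
  refine ⟨X.pS r, X.mem_QS.2 ⟨r, hr, rfl⟩, ?_⟩
  rw [← map_mul, ← map_inv, ← map_mul, e, map_mul]
  rfl

theorem big_cent : ∀ c : X.SS, (∀ q ∈ X.QS, Commute c q) → c ∈ X.QS := by
  intro c hc
  obtain ⟨h, rfl⟩ := X.exists_pS (hc _ (X.mem_QS.2 ⟨X.zh, E.zq_mem, rfl⟩))
  refine X.pS_mem_QS (Subtype.ext (iso_ext fun w => ?_))
  obtain ⟨q, hq, hqa, rfl⟩ := exists_wc X.D X.ha X.hap w
  have e : h * ⟨q, hqa⟩ * h⁻¹ = ⟨q, hqa⟩ := by
    refine X.pS_inj (E.conj_mem_Q _ hq) hq ?_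
    rw [map_mul, map_mul, map_inv, (hc _ (X.mem_QS.2 ⟨⟨q, hqa⟩, hq, rfl⟩)).eq,
      mul_inv_cancel_right]
  show mv (th X.D X.ha X.hi h : Cfsg.isometryGroup (ZMod 2) (fW m)) (wc X.D q) = mv 1 (wc X.D q)
  rw [mv_one, ← wc_conj X.D X.ha X.hi h hq hqa]
  rw [show (h : E.C) * q * (h : E.C)⁻¹ = q from congrArg Subtype.val e]

theorem big_simple : ∀ N : Subgroup X.SS, X.QS ≤ N → (∀ x ∈ N, Commute x X.zS) →
    (∀ c : X.SS, Commute c X.zS → ∀ x ∈ N, c * x * c⁻¹ ∈ N) →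
    N ≤ X.QS ∨ ∀ c : X.SS, Commute c X.zS → c ∈ N := by
  intro N hQN hNC hnorm
  have := X.hs
  have hsur : Function.Surjective X.tho := th_surjective X.D X.ha X.hap X.hi
  have hn : (N.comap X.pS).Normal :=
    ⟨fun n hn g => by
      show X.pS (g * n * g⁻¹) ∈ N
      rw [map_mul, map_mul, map_inv]
      exact hnorm _ (X.commute_pS g) _ hn⟩
  have hn' : ((N.comap X.pS).map X.tho).Normal := Subgroup.Normal.map hn _ hsur
  rcases hn'.eq_bot_or_eq_top with h | h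
  · left
    intro c hc
    obtain ⟨k, rfl⟩ := X.exists_pS (hNC c hc)
    rw [Subgroup.map_eq_bot_iff] at h
    exact X.pS_mem_QS (h hc)
  · right
    intro c hc
    obtain ⟨k, rfl⟩ := X.exists_pS hc
    have hk : X.tho k ∈ (N.comap X.pS).map X.tho := by rw [h]; trivial
    obtain ⟨k', hk', e⟩ := Subgroup.mem_map.1 hk
    rw [← mul_inv_cancel_left k' k, map_mul]
    exact N.mul_mem hk' (hQN (X.pS_mem_QS (by rw [map_mul, map_inv, e, inv_mul_cancel])))

theorem big_irred : ∀ M : Subgroup X.SS, M ≤ X.QS → (∀ c : X.SS, Commute c X.zS → ∀ x ∈ M, c * x * c⁻¹ ∈ M) →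
    (∃ x ∈ M, x ≠ 1 ∧ x ≠ X.zS) → X.QS ≤ M := by
  intro M hMQ hnorm hx
  obtain ⟨x, hxM, hx1, hx2⟩ := hx
  have hzM : X.zS ∈ M := by
    obtain ⟨q', hq', rfl⟩ := X.mem_QS.1 (hMQ hxM)
    obtain ⟨r, hr, e⟩ := X.exists_noncomm_QS hq'
      (fun e => hx1 (by rw [show q' = 1 from Subtype.ext e, map_one]))
      (fun e => hx2 (by rw [show q' = X.zh from Subtype.ext e]; rfl))
    have h := M.mul_mem (M.inv_mem hxM) (hnorm _ (X.commute_pS r) _ hxM)
    rwa [← map_inv, ← map_inv, ← map_mul, ← map_mul, ← map_mul, e, inv_mul_cancel_left] at h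
  let Mw : AddSubgroup ((Fin m ⊕ Fin m) ⊕ Fin 2 → ZMod 2) :=
    { carrier := {w | ∃ q : HH X.a, (q : E.C) ∈ E.Q ∧ X.pS q ∈ M ∧ wc X.D (q : E.C) = w}
      zero_mem' := ⟨1, one_mem _, by rw [map_one]; exact M.one_mem, by
        rw [OneMemClass.coe_one, wc, E.co_one, Matrix.mulVec_zero]⟩
      add_mem' := by
        rintro _ _ ⟨q, hq, hqM, rfl⟩ ⟨r, hr, hrM, rfl⟩
        exact ⟨q * r, mul_mem hq hr, by rw [map_mul]; exact M.mul_mem hqM hrM,
          wc_mul X.D hq hr⟩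
      neg_mem' := by
        rintro _ ⟨q, hq, hqM, rfl⟩
        exact ⟨q, hq, hqM, funext fun _ => (ZMod.neg_eq_self_mod_two _).symm⟩ }
  have hinv : ∀ g ∈ Cfsg.Omega (ZMod 2) (fW m), ∀ w ∈ Mw, mv g w ∈ Mw := by
    rintro g hg _ ⟨q, hq, hqM, rfl⟩
    obtain ⟨h, hh⟩ := th_surjective X.D X.ha X.hap X.hi ⟨g, hg⟩
    refine ⟨h * q * h⁻¹, E.conj_mem_Q _ hq, ?_, ?_⟩
    · rw [map_mul, map_mul, map_inv]
      exact hnorm _ (X.commute_pS h) _ hqM
    · show wc X.D ((h : E.C) * (q : E.C) * (h : E.C)⁻¹) = _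
      rw [wc_conj X.D X.ha X.hi h hq q.2, hh]
  have hne : ∃ w ∈ Mw, w ≠ 0 := by
    obtain ⟨q, hq, rfl⟩ := X.mem_QS.1 (hMQ hxM)
    refine ⟨_, ⟨q, hq, hxM, rfl⟩, fun e => ?_⟩
    rcases wc_eq_zero X.D X.ha hq q.2 e with e' | e'
    · exact hx1 (by rw [show q = 1 from Subtype.ext e', map_one])
    · exact hx2 (by rw [show q = X.zh from Subtype.ext e']; rfl)
  intro c hc
  obtain ⟨q, hq, rfl⟩ := X.mem_QS.1 hc
  obtain ⟨r, hr, hrM, e⟩ : wc X.D (q : E.C) ∈ Mw := by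
    rw [X.irr Mw hinv hne]; trivial
  have h0 : E.co (r : E.C) = E.co (q : E.C) := by
    rw [← emb_wc X.D X.ha hr r.2, e, emb_wc X.D X.ha hq q.2]
  rcases E.eq_or_of_co_eq hr hq h0 with e' | e'
  · rw [show q = r from Subtype.ext e']; exact hrM
  · rw [show q = r * X.zh from Subtype.ext e', map_mul]
    exact M.mul_mem hrM hzM

theorem bigTwo : BigTwo X.QS X.zS where
  ne_one := X.zS_ne_one
  sq := X.zS_sq
  mem := X.mem_QS.2 ⟨X.zh, E.zq_mem, rfl⟩
  pgroup := IsPGroup.of_card X.card_QS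
  comm q hq := by
    obtain ⟨h, -, rfl⟩ := X.mem_QS.1 hq
    exact X.commute_pS h
  norm := X.big_norm
  cases := X.big_cases
  noncentral := X.big_noncentral
  big := by
    rw [X.card_QS]
    calc 8 < 2 ^ 4 := by norm_num
      _ ≤ 2 ^ (2 * m + 3) := Nat.pow_le_pow_right (by norm_num) (by have := X.hm; omega)
  cent := X.big_cent
  simple := X.big_simple
  irred := X.big_irred

end Ctx


end Cfsg.Agent.Lib.SuzThree37
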