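import Cfsg.Agent.Lib.SuzThree37.Env
import Cfsg.Agent.Lib.Co1Local52.Swap

/-!
# Conway type: interchanged involutions

An abstract version of `Lib/Co1Local52` (helper52).

Owner: helper37.
-/

set_option autoImplicit false
set_option maxHeartbeats 1000000

namespace Cfsg.Agent.Lib.SuzThree37

open Cfsg Cfsg.Agent.Lib.Co1Local52
open Cfsg.Agent.Lib.Co1Cent (V8 qf)
open scoped Matrix commutatorElement

universe u

variable {G : Type u} [Group G] [Finite G] {E : Env G}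

/-- The data of two interchanged involutions. -/
structure Swap (E : Env G) where
  t : G
  x : E.C
  mem : x ∈ E.Q
  coord_eq : E.co x = w0
  fst : t * E.z * t⁻¹ = (x : G)
  snd : t * (x : G) * t⁻¹ = E.z

theorem exists_swap_w0 (E : Env G) : Nonempty (Swap E) := by
  obtain ⟨x, hx, hxc⟩ := E.co_surj w0
  obtain ⟨t, h1, h2⟩ := E.exists_swap hx (hxc ▸ w0_good.1) (hxc ▸ w0_good.2)
  exact ⟨⟨t, x, hx, hxc, h1, h2⟩⟩

namespace Swap

variable (W : Swap E)

theorem mem_of_comm {y : G} (h : y * (W.x : G) = (W.x : G) * y) :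
    W.t⁻¹ * y * W.t ∈ E.C := by
  refine Subgroup.mem_centralizer_singleton_iff.2 ?_
  rw [← W.fst] at h
  calc W.t⁻¹ * y * W.t * E.z = W.t⁻¹ * (y * (W.t * E.z * W.t⁻¹)) * W.t := by group
    _ = W.t⁻¹ * (W.t * E.z * W.t⁻¹ * y) * W.t := by rw [h]
    _ = E.z * (W.t⁻¹ * y * W.t) := by group

/-- Membership in both extraspecial groups. -/
def Both (d : E.C) : Prop :=
  d ∈ E.Q ∧ ∃ e : E.C, e ∈ E.Q ∧ (d : G) = W.t * (e : G) * W.t⁻¹

theorem comm_x {d : E.C} (hd : W.Both d) : d * W.x = W.x * d := by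
  obtain ⟨-, e, -, he⟩ := hd
  refine Subtype.ext ?_
  show (d : G) * (W.x : G) = (W.x : G) * d
  rw [he, ← W.fst, conj_mul, conj_mul, Subgroup.mem_centralizer_singleton_iff.1 e.2]

theorem both_cases {u v : E.C} (hu : W.Both u) (hv : W.Both v) : v * u = u * v := by
  obtain ⟨huQ, a, ha, hua⟩ := hu
  obtain ⟨hvQ, b, hb, hvb⟩ := hv
  rcases E.comm_or huQ hvQ with h | h
  · exact h
  rcases E.comm_or ha hb with h' | h'
  · refine Subtype.ext ?_
    show (v : G) * u = u * v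
    rw [hua, hvb, conj_mul, conj_mul]
    exact congrArg (fun x : G => W.t * x * W.t⁻¹) (congrArg Subtype.val h')
  exfalso
  have e1 : (v : G) * u = E.z * ((u : G) * v) := congrArg Subtype.val h
  have e2 : (b : G) * a = E.z * ((a : G) * b) := congrArg Subtype.val h'
  rw [hua, hvb, conj_mul, conj_mul, e2, ← conj_mul, W.fst] at e1
  have e3 : (W.x : G) = E.z := mul_right_cancel e1
  have : W.x = E.zq := Subtype.ext e3
  exact w0_good.1 (by rw [← W.coord_eq, this, E.co_zq])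

theorem qf_both {d : E.C} (hd : W.Both d) : qf (E.co d) = 0 := by
  obtain ⟨hdQ, e, he, hde⟩ := hd
  rw [E.qf_eq_zero_iff hdQ]
  rw [E.sq_co hdQ]
  split_ifs with h
  · rfl
  exfalso
  have h1 : (d : G) * d = E.z := congrArg Subtype.val (show d * d = E.zq by
    rw [E.sq_co hdQ, if_neg h])
  rw [hde, conj_mul] at h1
  rcases (show e * e = 1 ∨ e * e = E.zq by rw [E.sq_co he]; split_ifs <;> simp) with h' | h'
  · rw [show (e : G) * e = 1 from congrArg Subtype.val h', mul_one, mul_inv_cancel] at h1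
    exact E.zq_ne_one (Subtype.ext h1.symm)
  · rw [show (e : G) * e = E.z from congrArg Subtype.val h', W.fst] at h1
    have : W.x = E.zq := Subtype.ext h1
    exact w0_good.1 (by rw [← W.coord_eq, this, E.co_zq])

/-- The intersection has coordinates in the line of the base vector. -/
theorem both_coord {d : E.C} (hd : W.Both d) : E.co d = 0 ∨ E.co d = w0 := by
  by_contra hc
  rw [not_or] at hc
  have hpol : pol qf (E.co d) w0 = 0 := by
    rw [← W.coord_eq, ← E.comm_iff hd.1 W.mem]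
    exact (W.comm_x hd).symm
  obtain ⟨g, hg, hgw, hgc⟩ := exists_moving _ (W.qf_both hd) hpol hc.1 hc.2
  obtain ⟨k, rfl⟩ := E.exists_lift hg
  obtain ⟨k', hk', hkx⟩ : ∃ k' : E.C, E.rho k' = E.rho k ∧ k' * W.x * k'⁻¹ = W.x := by
    rw [← W.coord_eq, E.mv_co k W.mem] at hgw
    rcases E.eq_or_of_co_eq (E.conj_mem_Q k W.mem) W.mem hgw with e | e
    · exact ⟨k, rfl, e.symm⟩
    · obtain ⟨q, hq, hqx⟩ := E.exists_noncomm (E.conj_mem_Q k W.mem)
        (by rw [hgw, W.coord_eq]; exact w0_good.1)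
      refine ⟨q * k, ?_, ?_⟩
      · rw [map_mul, show E.rho q = 1 from MonoidHom.mem_ker.1 (by rw [E.ker_rho]; exact hq), one_mul]
      · conv_rhs => rw [e, ← hqx]
        simp only [mul_assoc, mul_inv_rev]
  obtain ⟨hdQ, e, he, hde⟩ := hd
  have hkm : W.t⁻¹ * (k' : G) * W.t ∈ E.C :=
    W.mem_of_comm (congrArg Subtype.val (mul_inv_eq_iff_eq_mul.1 hkx))
  have hb : W.Both (k' * d * k'⁻¹) := by
    refine ⟨E.conj_mem_Q k' hdQ, _, E.conj_mem_Q ⟨_, hkm⟩ he, ?_⟩
    show (k' : G) * d * (k' : G)⁻¹ =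
      W.t * (W.t⁻¹ * k' * W.t * e * (W.t⁻¹ * k' * W.t)⁻¹) * W.t⁻¹
    rw [hde]; group
  have h := W.both_cases ⟨hdQ, e, he, hde⟩ hb
  rw [E.comm_iff hdQ (E.conj_mem_Q k' hdQ), ← E.mv_co k' hdQ, hk', hgc] at h
  exact one_ne_zero h

/-- The conjugate of an element of the extraspecial group commuting with `x` fixes the base vector
and induces a transvection on its perp. -/
theorem unipotent {q : E.C} (hq : q ∈ E.Q) (g : E.C)
    (hg : (g : G) = W.t * (q : G) * W.t⁻¹) :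
    mv (E.rho g) w0 = w0 ∧
      ∀ c : V8, pol qf c w0 = 0 → mv (E.rho g) c = c ∨ mv (E.rho g) c = c + w0 := by
  have hgx : g * W.x * g⁻¹ = W.x := by
    refine mul_inv_eq_iff_eq_mul.2 (Subtype.ext ?_)
    show (g : G) * (W.x : G) = (W.x : G) * g
    rw [hg, ← W.fst, conj_mul, conj_mul, Subgroup.mem_centralizer_singleton_iff.1 q.2]
  refine ⟨by rw [← W.coord_eq, E.mv_co g W.mem, hgx], fun c hc => ?_⟩
  obtain ⟨y, hy, rfl⟩ := E.co_surj c
  rw [← W.coord_eq, ← E.comm_iff hy W.mem] at hc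
  have hym : W.t⁻¹ * (y : G) * W.t ∈ E.C :=
    W.mem_of_comm (congrArg Subtype.val hc).symm
  have hb : W.Both (g * y * g⁻¹ * y⁻¹) := by
    refine ⟨mul_mem (E.conj_mem_Q g hy) (inv_mem hy), q * ((⟨_, hym⟩ : E.C) * q⁻¹ * (⟨_, hym⟩ : E.C)⁻¹),
      mul_mem hq (E.conj_mem_Q _ (inv_mem hq)), ?_⟩
    show (g : G) * y * (g : G)⁻¹ * (y : G)⁻¹ = W.t * ((q : G) *
      (W.t⁻¹ * y * W.t * (q : G)⁻¹ * (W.t⁻¹ * y * W.t)⁻¹)) * W.t⁻¹
    rw [hg]; group
  have hs : E.co (g * y * g⁻¹) = E.co (g * y * g⁻¹ * y⁻¹) + E.co y := by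
    rw [← E.comul hb.1 hy, inv_mul_cancel_right]
  rw [E.mv_co g hy, hs]
  rcases W.both_coord hb with h | h <;> rw [h]
  · exact Or.inl (zero_add _)
  · exact Or.inr (add_comm _ _)

end Swap


end Cfsg.Agent.Lib.SuzThree37
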